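import Cfsg.Agent.J4Aut79.Lin

/-! Twisted generators of `M24` in `2^11 : M24` differ by a coboundary. -/

set_option autoImplicit false
set_option maxRecDepth 100000

namespace CfsgLib.J4Aut79

/-- value of a word at twisted generators -/
def coc (a b : ℕ) : List ℕ → ℕ
  | [] => 0
  | c :: w =>
    let r := coc a b w
    if c = 0 then a ^^^ lin matEX r
    else if c = 1 then lin matEX a ^^^ lin matEX r
    else if c = 2 then b ^^^ lin matEY (lin matEY r)
    else lin matEY b ^^^ lin matEY r

/-- change of the twist of `y` by a combination -/
def twY (f : ℕ) : ℕ := f ^^^ lin matEY (lin matEY f)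

/-- `y` can be straightened -/
def twistYOK : Bool := (List.range 2048).all fun b =>
  !(Nat.beq (coc 0 b [2, 2, 2]) 0) || (List.range 2048).any fun f => Nat.beq (twY f) b

/-- then `x` can be straightened -/
def twistXOK : Bool := (List.range 2048).all fun a =>
  !(J4M24.Tab.relWords.all fun w => Nat.beq (coc a 0 w) 0) ||
    (List.range 2048).any fun f => Nat.beq (twY f) 0 &&
      (Nat.beq (f ^^^ lin matEX f) a || Nat.beq (f ^^^ lin matEX f) (a ^^^ 1088))

theorem relWords_letters :
    (J4M24.Tab.relWords.all fun w => w.all fun c => c.blt 4) = true := by decide +kernel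

theorem twistY_ok : twistYOK = true := by decide +kernel

theorem twistX_ok : twistXOK = true := by decide +kernel

end CfsgLib.J4Aut79
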