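import Cfsg.Agent.J4Aut79.Model
import Cfsg.Agent.J4Aut79.Cocycle
import Cfsg.Agent.Mathieu.OutLarge

/-!
Every automorphism is, up to an inner one, the identity on `x, y` or the one twist by a cocycle.
-/

set_option autoImplicit false
set_option maxRecDepth 100000

namespace CfsgLib.J4Aut79

open Cfsg CfsgLib.CosetEnum
open scoped Pointwise

variable (hs : IsSimpleGroup G)
include hs

theorem gword_twist (a b : ℕ) : ∀ w : List ℕ, (w.all fun c => c.blt 4) = true →
    gword (J4M24.lets (ev a * gx) (ev b * gy)) w =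
      ev (coc a b w) * gword (J4M24.lets gx gy) w
  | [], _ => by
    rw [gword_nil, gword_nil, mul_one]
    exact (show ev 0 = 1 from rfl).symm
  | c :: w, h => by
    rw [List.all_cons, Bool.and_eq_true, Nat.blt, Nat.ble_eq] at h
    rw [gword_cons, gword_cons, gword_twist a b w h.2]
    set W := gword (J4M24.lets gx gy) w
    show _ = ev (coc a b (c :: w)) * _
    rw [coc]
    set r := coc a b w
    have hxi : gx⁻¹ = gx := inv_eq_of_mul_eq_one_right gx_mul_self
    have hX : ∀ v, gx * ev v = ev (lin matEX v) * gx := by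
      intro v
      have h1 := conj_gx hs v
      rw [hxi] at h1
      rw [← h1, mul_assoc (gx * ev v) gx gx, gx_mul_self, mul_one]
    have hYi : ∀ v, gy⁻¹ * ev v = ev (lin matEY v) * gy⁻¹ := fun v => by
      rw [← conj_gy hs v]; group
    have hY : ∀ v, gy * ev v = ev (lin matEY (lin matEY v)) * gy := by
      intro v
      have hy : gy = gy⁻¹ * gy⁻¹ := by
        rw [← mul_inv_rev, eq_inv_iff_mul_eq_one, ← mul_assoc, gy_cube]
      calc gy * ev v = gy⁻¹ * (gy⁻¹ * ev v) := by rw [← mul_assoc, ← hy]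
        _ = gy⁻¹ * (ev (lin matEY v) * gy⁻¹) := by rw [hYi]
        _ = gy⁻¹ * ev (lin matEY v) * gy⁻¹ := (mul_assoc _ _ _).symm
        _ = ev (lin matEY (lin matEY v)) * (gy⁻¹ * gy⁻¹) := by rw [hYi, mul_assoc]
        _ = ev (lin matEY (lin matEY v)) * gy := by rw [← hy]
    have hinv : ∀ v, (ev v)⁻¹ = ev v := fun v =>
      inv_eq_of_mul_eq_one_right (by rw [ev_mul hs, Nat.xor_self]; rfl)
    have hc4 : c < 4 := h.1
    interval_cases c
    · show ev a * gx * (ev r * W) = ev (a ^^^ lin matEX r) * (gx * W)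
      rw [← mul_assoc, mul_assoc (ev a) gx, hX, ← mul_assoc (ev a), ev_mul hs, mul_assoc]
    · show (ev a * gx)⁻¹ * (ev r * W) = ev (lin matEX a ^^^ lin matEX r) * (gx⁻¹ * W)
      rw [mul_inv_rev, hinv, hxi, ← mul_assoc, mul_assoc gx, ev_mul hs, hX, lin_xor, mul_assoc]
    · show ev b * gy * (ev r * W) = ev (b ^^^ lin matEY (lin matEY r)) * (gy * W)
      rw [← mul_assoc, mul_assoc (ev b) gy, hY, ← mul_assoc (ev b), ev_mul hs, mul_assoc]
    · show (ev b * gy)⁻¹ * (ev r * W) = ev (lin matEY b ^^^ lin matEY r) * (gy⁻¹ * W)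
      rw [mul_inv_rev, hinv, ← mul_assoc, mul_assoc gy⁻¹, ev_mul hs, hYi, lin_xor, mul_assoc]

theorem gword_relWord {w : List ℕ} (hw : w ∈ J4M24.Tab.relWords) :
    gword (J4M24.lets gx gy) w = 1 := by
  have h := congrArg J4M24.incl (J4M24.gword_rel hw)
  rw [J4M24.gl, J4M24.map_gword_lets, map_one,
    show J4M24.incl J4M24.px = gx from PresentedGroup.toGroup.of _,
    show J4M24.incl J4M24.py = gy from PresentedGroup.toGroup.of _] at h
  exact h

theorem ext_of_gens {φ ψ : MulAut G} (hx : φ gx = ψ gx) (hy : φ gy = ψ gy) (ht : φ gt = ψ gt) :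
    φ = ψ := by
  have h : φ.toMonoidHom = ψ.toMonoidHom := PresentedGroup.ext fun a => by
    cases a
    exacts [hx, hy, ht]
  exact MulEquiv.ext fun g => DFunLike.congr_fun h g

/-- composing with conjugation keeps the class modulo inner automorphisms -/
theorem mem_inn_of_conj {g : G} {φ : MulAut G} (h : MulAut.conj g * φ ∈ Cfsg.Inn G) :
    φ ∈ Cfsg.Inn G := by
  have hg : MulAut.conj g ∈ Cfsg.Inn G := ⟨g, rfl⟩
  have := mul_mem (inv_mem hg) h
  rwa [inv_mul_cancel_left] at this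

theorem mem_inn_of_normalised (hcard : Nat.card G = 86775571046077562880)
    (hNE : ∀ g : G, (∀ e ∈ E, g * e * g⁻¹ ∈ E) → g ∈ MM hs)
    (hfin : ∀ (γ : MulAut G) (a : ℕ), a = 0 ∨ a = 1088 → γ gx = ev a * gx → γ gy = gy →
      γ ∈ Cfsg.Inn G)
    (α : MulAut G) : α ∈ Cfsg.Inn G := by
  classical
  haveI := finite_G hs
  haveI : Fact (Nat.Prime 2) := ⟨Nat.prime_two⟩
  have hSS : Nat.card (SS hs) = 2 ^ 21 := by
    rw [SS, card_EH, card_S24 hs]
    norm_num
  have hfac : (Nat.card G).factorization 2 = 21 := by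
    have e : Nat.card G = 2 ^ 21 * 41377816699065 := by rw [hcard]; norm_num
    rw [e, Nat.factorization_mul (by norm_num) (by norm_num), Finsupp.add_apply,
      Nat.Prime.factorization_pow Nat.prime_two, Finsupp.single_eq_same,
      Nat.factorization_eq_zero_of_not_dvd (by norm_num)]
  let P : Sylow 2 G := Sylow.ofCard (SS hs) (by rw [hSS, hfac])
  let Q : Sylow 2 G := Sylow.ofCard ((SS hs).map α.toMonoidHom) (by
    rw [← hfac] at hSS
    rw [← hSS]
    exact Nat.card_congr ((SS hs).equivMapOfInjective _ α.injective).toEquiv.symm)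
  obtain ⟨g, hg⟩ := MulAction.exists_smul_eq G Q P
  refine mem_inn_of_conj hs (g := g) ?_
  set β : MulAut G := MulAut.conj g * α with hβ
  have hβS : (SS hs).map β.toMonoidHom = SS hs := by
    have h1 := congrArg Sylow.toSubgroup hg
    rw [Sylow.coe_subgroup_smul] at h1
    conv_rhs => rw [show SS hs = (P : Subgroup G) from rfl, ← h1]
    show _ = MulAut.conj g • (SS hs).map α.toMonoidHom
    rw [Subgroup.pointwise_smul_def]
    ext y
    constructor
    · rintro ⟨a, ha, rfl⟩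
      exact ⟨α a, ⟨a, ha, rfl⟩, rfl⟩
    · rintro ⟨_, ⟨a, ha, rfl⟩, rfl⟩
      exact ⟨a, ha, rfl⟩
  have hβE : E.map β.toMonoidHom = E := by
    refine eq_E_of_normal hs _ ?_ ?_ ?_ ?_
    · exact hβS ▸ Subgroup.map_mono (E_le_SS hs)
    · intro s hsS _ he
      obtain ⟨e, he', rfl⟩ := he
      rw [← hβS] at hsS
      obtain ⟨s', hs', rfl⟩ := hsS
      refine ⟨s' * e * s'⁻¹, ?_, by simp⟩
      obtain ⟨e₁, he₁, k, hk, rfl⟩ := hs'
      rw [show e₁ * k * e * (e₁ * k)⁻¹ = e₁ * (k * e * k⁻¹) * e₁⁻¹ by group]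
      exact mul_mem (mul_mem he₁ (conj_E hs (S24_le_K hk) he')) (inv_mem he₁)
    · rintro _ ⟨e, he, rfl⟩
      obtain ⟨v, -, rfl⟩ := exists_ev hs he
      rw [← map_mul, ev_mul hs, Nat.xor_self, ← map_one β.toMonoidHom]
      rfl
    · rw [← card_E hs]
      exact Nat.card_congr (E.equivMapOfInjective _ β.injective).toEquiv.symm
  have hEE : ∀ e, e ∈ E ↔ β e ∈ E := by
    intro e
    constructor
    · intro he
      rw [← hβE]
      exact ⟨e, he, rfl⟩
    · intro he
      rw [← hβE] at he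
      obtain ⟨e', he', heq⟩ := he
      rwa [← β.injective heq]
  have hβM : ∀ m ∈ MM hs, β m ∈ MM hs := by
    intro m hm
    refine hNE _ fun e he => ?_
    obtain ⟨e', he', rfl⟩ : ∃ e' ∈ E, β e' = e := by
      rw [← hβE] at he
      exact he
    rw [← map_inv β, ← map_mul, ← map_mul]
    refine (hEE _).1 ?_
    obtain ⟨e₁, he₁, k, hk, rfl⟩ := hm
    rw [show e₁ * k * e' * (e₁ * k)⁻¹ = e₁ * (k * e' * k⁻¹) * e₁⁻¹ by group]
    exact mul_mem (mul_mem he₁ (conj_E hs hk he')) (inv_mem he₁)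
  -- the induced automorphism of `K`
  let ψ : ↥K →* ↥K := ((pr hs).comp
    (((β.toMonoidHom.comp K.subtype).codRestrict (MM hs)
      fun k => hβM _ (K_le_MM hs k.2)))).codRestrict K fun _ => pr_mem hs _
  have hψinj : Function.Injective ψ := by
    rw [← MonoidHom.ker_eq_bot_iff, Subgroup.eq_bot_iff_forall]
    intro k hk
    have h1 : pr hs ⟨β k, hβM _ (K_le_MM hs k.2)⟩ = 1 := congrArg Subtype.val hk
    have h2 := mul_pr_inv_mem hs ⟨β k, hβM _ (K_le_MM hs k.2)⟩
    rw [h1, inv_one, mul_one] at h2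
    exact Subtype.ext (inf_eq_one hs ((hEE _).2 h2) k.2)
  let ψ' : MulAut ↥K := MulEquiv.ofBijective ψ ⟨hψinj, Finite.injective_iff_surjective.1 hψinj⟩
  obtain ⟨m₀, hm₀⟩ := CfsgLib.Mathieu.inn_M24 ((equivK.trans ψ').trans equivK.symm)
  have hψk : ∀ k : ↥K, ψ k = equivK m₀ * k * (equivK m₀)⁻¹ := by
    intro k
    have h := MulEquiv.congr_fun hm₀ (equivK.symm k)
    simp only [MulAut.conj_apply, MulEquiv.trans_apply, MulEquiv.apply_symm_apply] at h
    apply equivK.symm.injective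
    rw [map_mul, map_mul, map_inv, equivK.symm_apply_apply]
    exact h.symm
  set k₀ : G := (equivK m₀ : G) with hk₀
  have hk₀K : k₀ ∈ K := (equivK m₀).2
  refine mem_inn_of_conj hs (g := k₀⁻¹) ?_
  set γ : MulAut G := MulAut.conj k₀⁻¹ * β with hγ
  have hγK : ∀ k ∈ K, ∃ v < 2048, γ k = ev v * k := by
    intro k hk
    let bk : MM hs := ⟨β k, hβM _ (K_le_MM hs hk)⟩
    have h1 : pr hs bk = k₀ * k * k₀⁻¹ := congrArg Subtype.val (hψk ⟨k, hk⟩)
    have h2 := mul_pr_inv_mem hs bk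
    rw [h1] at h2
    obtain ⟨v, hv, hve⟩ := exists_ev hs (conj_E hs (inv_mem hk₀K) h2)
    refine ⟨v, hv, ?_⟩
    rw [hve, hγ, MulAut.mul_apply, MulAut.conj_apply]
    show k₀⁻¹ * β k * k₀⁻¹⁻¹ = k₀⁻¹ * (β k * (k₀ * k * k₀⁻¹)⁻¹) * k₀⁻¹⁻¹ * k
    group
  obtain ⟨a, ha, hax⟩ := hγK gx (Subgroup.subset_closure (Or.inl rfl))
  obtain ⟨b, hb, hby⟩ := hγK gy (Subgroup.subset_closure (Or.inr rfl))
  have hlets : ∀ (φ : MulAut G) w, φ (gword (J4M24.lets gx gy) w) =
      gword (J4M24.lets (φ gx) (φ gy)) w := fun φ w => J4M24.map_gword_lets φ.toMonoidHom gx gy w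
  have hrel : ∀ (φ : MulAut G) (a b : ℕ), φ gx = ev a * gx → φ gy = ev b * gy →
      ∀ w ∈ J4M24.Tab.relWords, ev (coc a b w) = 1 := by
    intro φ a b hx hy w hw
    have h1 := hlets φ w
    rw [gword_relWord hs hw, map_one, hx, hy,
      gword_twist hs a b w (List.all_eq_true.1 relWords_letters w hw), gword_relWord hs hw,
      mul_one] at h1
    exact h1.symm
  have hcoc_lt : ∀ (a b : ℕ), a < 2048 → b < 2048 → ∀ w, coc a b w < 2048 := by
    intro a b ha hb w
    have hX : ∀ v, lin matEX v < 2048 := fun v => linN_lt _ (by decide) 11 v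
    have hY : ∀ v, lin matEY v < 2048 := fun v => linN_lt _ (by decide) 11 v
    induction w with
    | nil => norm_num [coc]
    | cons c w ih =>
      simp only [coc]
      split_ifs
      · exact Nat.xor_lt_two_pow (n := 11) ha (hX _)
      · exact Nat.xor_lt_two_pow (n := 11) (hX _) (hX _)
      · exact Nat.xor_lt_two_pow (n := 11) hb (hY _)
      · exact Nat.xor_lt_two_pow (n := 11) (hY _) (hY _)
  -- straighten `y`
  have hy3 : coc 0 b [2, 2, 2] = 0 := by
    refine ev_eq_one hs (hcoc_lt 0 b (by norm_num) hb _) ?_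
    have h1 := hrel γ a b hax hby [2, 2, 2] (by decide)
    exact h1
  have h := List.all_eq_true.1 twistY_ok b (List.mem_range.2 hb)
  rw [Bool.or_eq_true, Bool.not_eq_true', hy3] at h
  rcases h with h | h
  · simp at h
  obtain ⟨f, hf, hfb⟩ := List.any_eq_true.1 h
  rw [Nat.beq_eq] at hfb
  have htw : ∀ (φ : MulAut G) (a b f : ℕ), φ gx = ev a * gx → φ gy = ev b * gy →
      (MulAut.conj (ev f) * φ) gx = ev (a ^^^ (f ^^^ lin matEX f)) * gx ∧
        (MulAut.conj (ev f) * φ) gy = ev (b ^^^ twY f) * gy := by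
    intro φ a b f hx hy
    have hinv : (ev f)⁻¹ = ev f :=
      inv_eq_of_mul_eq_one_right (by rw [ev_mul hs, Nat.xor_self]; rfl)
    refine ⟨?_, ?_⟩
    · have h1 := gword_twist hs a 0 [0] (by decide)
      have e : gx * ev f = ev (lin matEX f) * gx := by
        have h2 := conj_gx hs f
        rw [inv_eq_of_mul_eq_one_right gx_mul_self] at h2
        rw [← h2, mul_assoc (gx * ev f) gx gx, gx_mul_self, mul_one]
      rw [MulAut.mul_apply, MulAut.conj_apply, hx, hinv, ← mul_assoc, ev_mul hs, mul_assoc, e,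
        ← mul_assoc, ev_mul hs]
      congr 2
      simp [Nat.xor_assoc, Nat.xor_comm, Nat.xor_left_comm]
    · have e := gword_twist hs 0 f [2] (by decide)
      have e2 : gy * ev f = ev (lin matEY (lin matEY f)) * gy := by
        have h1 := conj_gy hs (lin matEY (lin matEY f))
        have h3 : ev (lin matEY (lin matEY (lin matEY f))) = ev f := by
          rw [← conj_gy hs, ← conj_gy hs, ← conj_gy hs,
            show gy⁻¹ * (gy⁻¹ * (gy⁻¹ * ev f * gy) * gy) * gy =
              (gy * gy * gy)⁻¹ * ev f * (gy * gy * gy) by group, gy_cube]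
          group
        rw [h3] at h1
        rw [← h1]
        group
      rw [MulAut.mul_apply, MulAut.conj_apply, hy, hinv, ← mul_assoc, ev_mul hs, mul_assoc, e2,
        ← mul_assoc, ev_mul hs, twY]
      congr 2
      simp [Nat.xor_assoc, Nat.xor_comm, Nat.xor_left_comm]
  refine mem_inn_of_conj hs (g := ev f) ?_
  obtain ⟨h1x, h1y⟩ := htw γ a b f hax hby
  rw [hfb, Nat.xor_self] at h1y
  set γ₁ : MulAut G := MulAut.conj (ev f) * γ
  have hlinX : ∀ v, lin matEX v < 2048 := fun v => linN_lt _ (by decide) 11 v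
  have hf2 : f < 2048 := List.mem_range.1 hf
  have ha1 : a ^^^ (f ^^^ lin matEX f) < 2048 :=
    Nat.xor_lt_two_pow (n := 11) ha (Nat.xor_lt_two_pow (n := 11) hf2 (hlinX f))
  have h2 := List.all_eq_true.1 twistX_ok _ (List.mem_range.2 ha1)
  have hall : (J4M24.Tab.relWords.all fun w =>
      Nat.beq (coc (a ^^^ (f ^^^ lin matEX f)) 0 w) 0) = true :=
    List.all_eq_true.2 fun w hw => by
      rw [Nat.beq_eq]
      exact ev_eq_one hs (hcoc_lt _ 0 ha1 (by norm_num) w) (hrel γ₁ _ 0 h1x h1y w hw)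
  rw [Bool.or_eq_true, Bool.not_eq_true', hall] at h2
  rcases h2 with h2 | h2
  · simp at h2
  obtain ⟨f', hf', hfb'⟩ := List.any_eq_true.1 h2
  rw [Bool.and_eq_true, Bool.or_eq_true, Nat.beq_eq, Nat.beq_eq, Nat.beq_eq] at hfb'
  refine mem_inn_of_conj hs (g := ev f') ?_
  obtain ⟨h3x, h3y⟩ := htw γ₁ _ 0 f' h1x h1y
  rw [hfb'.1, Nat.xor_zero] at h3y
  refine hfin _ _ ?_ h3x (h3y.trans (one_mul gy))
  rcases hfb'.2 with h4 | h4
  · left; rw [h4, Nat.xor_self]
  · right; rw [h4, ← Nat.xor_assoc, Nat.xor_self, Nat.zero_xor]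

end CfsgLib.J4Aut79
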