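import Cfsg.Agent.J4M24.Iso

/-!
Tools for the 112-dimensional representation of the presented fourth Janko group: elements given by
tables, and equalities read off from tables.
-/

set_option autoImplicit false
set_option maxRecDepth 100000

namespace CfsgLib.J4Aut79

open Cfsg CfsgLib.CosetEnum CfsgLib.J4Rep112

/-- the group -/
abbrev G : Type := Spor.J4

/-- first generator -/
def gx : G := PresentedGroup.of Spor.J4.Gen.x
/-- second generator -/
def gy : G := PresentedGroup.of Spor.J4.Gen.y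
/-- third generator -/
def gt : G := PresentedGroup.of Spor.J4.Gen.t

/-- values of the six letters -/
def gl : ℕ → G := fun c => if c < 2 then gx else if c = 2 then gy else if c = 3 then gy⁻¹ else gt

theorem gx_mul_self : gx * gx = 1 := by
  have h := PresentedGroup.one_of_mem (rels := Spor.coxRelators Spor.J4.edges ∪ {r | r ∈ Spor.J4.extra})
    (x := Spor.J4.x ^ 2) (Or.inr (show Spor.J4.x ^ 2 ∈ Spor.J4.extra from List.mem_cons_self))
  rw [map_pow, sq] at h
  exact h

theorem gy_cube : gy * gy * gy = 1 := by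
  have h := PresentedGroup.one_of_mem (rels := Spor.coxRelators Spor.J4.edges ∪ {r | r ∈ Spor.J4.extra})
    (x := Spor.J4.y ^ 3) (Or.inr (show Spor.J4.y ^ 3 ∈ Spor.J4.extra from
      List.mem_cons_of_mem _ List.mem_cons_self))
  rw [map_pow, pow_succ, sq] at h
  exact h

/-- the value of an element on a bit mask -/
noncomputable def rv (g : G) (v : ℕ) : ℕ := if h : v < 2 ^ 112 then (rep g ⟨v, h⟩).1 else 0

theorem rv_lt (g : G) (v : ℕ) : rv g v < 2 ^ 112 := by
  unfold rv
  split
  · exact (rep g _).2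
  · norm_num

theorem rv_mul (g h : G) {v : ℕ} (hv : v < 2 ^ 112) : rv (g * h) v = rv g (rv h v) := by
  have e : rv h v = (rep h ⟨v, hv⟩).1 := dif_pos hv
  unfold rv
  rw [dif_pos hv, dif_pos hv, dif_pos (rep h ⟨v, hv⟩).2, map_mul, Equiv.Perm.mul_apply]

theorem rv_one {v : ℕ} (hv : v < 2 ^ 112) : rv 1 v = v := by
  unfold rv
  rw [dif_pos hv, map_one]
  rfl

theorem vec_xor {a b : ℕ} (ha : a < 2 ^ 112) (hb : b < 2 ^ 112) : a ^^^ b < 2 ^ 112 :=
  Nat.xor_lt_two_pow ha hb

/-- additive elements -/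
def addSub : Subgroup G where
  carrier := {g | ∀ a b, a < 2 ^ 112 → b < 2 ^ 112 → rv g (a ^^^ b) = rv g a ^^^ rv g b}
  one_mem' := fun a b ha hb => by rw [rv_one ha, rv_one hb, rv_one (vec_xor ha hb)]
  mul_mem' := fun {g h} hg hh a b ha hb => by
    rw [rv_mul g h ha, rv_mul g h hb, rv_mul g h (vec_xor ha hb), hh a b ha hb,
      hg _ _ (rv_lt h a) (rv_lt h b)]
  inv_mem' := fun {g} hg a b ha hb => by
    have hc : ∀ {v}, v < 2 ^ 112 → rv g (rv g⁻¹ v) = v := fun {v} hv => by
      rw [← rv_mul g g⁻¹ hv, mul_inv_cancel, rv_one hv]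
    have hi : ∀ {v}, v < 2 ^ 112 → rv g⁻¹ (rv g v) = v := fun {v} hv => by
      rw [← rv_mul g⁻¹ g hv, inv_mul_cancel, rv_one hv]
    conv_lhs => rw [← hc ha, ← hc hb, ← hg _ _ (rv_lt _ a) (rv_lt _ b)]
    rw [hi (vec_xor (rv_lt _ a) (rv_lt _ b))]

/-- the table describes the element -/
def Rp (g : G) (M : List ℕ) : Prop := ∀ v, v < 2 ^ 112 → rv g v = vm M v

theorem rp_gen (a : Spor.J4.Gen) : Rp (PresentedGroup.of a) (mats.getD (enc a) []) := fun v hv => by
  unfold rv
  rw [dif_pos hv, rep, PresentedGroup.toGroup.of]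
  rw [show val (enc a) = letterPerm (enc a) (by cases a <;> decide) from
    dif_pos (by cases a <;> decide)]
  rfl

theorem rv_additive (g : G) : g ∈ addSub := by
  suffices h : (⊤ : Subgroup G) ≤ addSub from h (Subgroup.mem_top g)
  rw [← PresentedGroup.closure_range_of, Subgroup.closure_le]
  rintro _ ⟨a, rfl⟩ x y hx hy
  rw [rp_gen a x hx, rp_gen a y hy, rp_gen a _ (vec_xor hx hy)]
  exact vm_xor _ (List.all_eq_true.1 mats_addOK _ (by cases a <;> simp [mats, enc])) x y

theorem rv_xor (g : G) {a b : ℕ} (ha : a < 2 ^ 112) (hb : b < 2 ^ 112) :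
    rv g (a ^^^ b) = rv g a ^^^ rv g b := rv_additive g a b ha hb

theorem rv_zero (g : G) : rv g 0 = 0 := by
  have h := rv_xor g (a := 0) (b := 0) (by norm_num) (by norm_num)
  simpa using h

theorem rp_letter {c : ℕ} (hc : c < 6) : Rp (gl c) (mats.getD c []) := by
  have hx := rp_gen Spor.J4.Gen.x
  have hy := rp_gen Spor.J4.Gen.y
  have ht := rp_gen Spor.J4.Gen.t
  interval_cases c
  · exact hx
  · exact hx
  · exact hy
  · intro v hv
    have h := act_eq_self (mats_spec (c := 2) (by norm_num)) hv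
    show rv gy⁻¹ v = _
    have hw : vm (mats.getD 3 []) v < 2 ^ 112 := vm_lt _ _
    calc rv gy⁻¹ v = rv gy⁻¹ (rv gy (vm (mats.getD 3 []) v)) := by
          congr 1
          rw [show gy = PresentedGroup.of Spor.J4.Gen.y from rfl, hy _ hw]
          exact h.symm
      _ = vm (mats.getD 3 []) v := by rw [← rv_mul _ _ hw, inv_mul_cancel, rv_one hw]
  · exact ht
  · exact ht

/-- the action of a word in a list of tables -/
noncomputable def actL (MS : List (List ℕ)) : List ℕ → ℕ → ℕ
  | [], v => v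
  | c :: w, v => vm (MS.getD c []) (actL MS w v)

theorem actL_lt (MS : List (List ℕ)) : ∀ (w : List ℕ) {v : ℕ}, v < 2 ^ 112 → actL MS w v < 2 ^ 112
  | [], _, hv => hv
  | _ :: _, _, _ => vm_lt _ _

theorem rv_gword (ev : ℕ → G) (MS : List (List ℕ)) (n : ℕ) (hMS : ∀ c < n, Rp (ev c) (MS.getD c [])) :
    ∀ (w : List ℕ), (w.all fun c => c.blt n) = true → ∀ {v : ℕ}, v < 2 ^ 112 →
      rv (gword ev w) v = actL MS w v
  | [], _, v, hv => rv_one hv
  | c :: w, h, v, hv => by
    rw [List.all_cons, Bool.and_eq_true, Nat.blt, Nat.ble_eq] at h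
    rw [gword_cons, rv_mul _ _ hv, rv_gword ev MS n hMS w h.2 hv, hMS c h.1 _ (actL_lt MS w hv)]
    rfl

/-- two additive maps agreeing on the basis agree -/
theorem eq_of_basis {f g : ℕ → ℕ}
    (hf : ∀ a b, a < 2 ^ 112 → b < 2 ^ 112 → f (a ^^^ b) = f a ^^^ f b)
    (hg : ∀ a b, a < 2 ^ 112 → b < 2 ^ 112 → g (a ^^^ b) = g a ^^^ g b)
    (h : ∀ i < 112, f (2 ^ i) = g (2 ^ i)) {v : ℕ} (hv : v < 2 ^ 112) : f v = g v := by
  have key : ∀ n, n ≤ 112 → ∀ v < 2 ^ n, f v = g v := by
    intro n
    induction n with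
    | zero =>
      intro _ v hv
      have : v = 0 := by simpa using hv
      subst this
      have h1 := hf 0 0 (by norm_num) (by norm_num)
      have h2 := hg 0 0 (by norm_num) (by norm_num)
      simp only [Nat.xor_self] at h1 h2
      rw [h1, h2]
    | succ n ih =>
      intro hn v hv
      have hp : 2 ^ n < 2 ^ 112 := Nat.pow_lt_pow_right (by norm_num) (by omega)
      by_cases hlt : v < 2 ^ n
      · exact ih (by omega) v hlt
      · have hw : v - 2 ^ n < 2 ^ n := by rw [pow_succ] at hv; omega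
        have e : v = (v - 2 ^ n) ^^^ 2 ^ n := by
          have hq : (v - 2 ^ n) ^^^ 2 ^ n = v - 2 ^ n + 2 ^ n := by
            refine Nat.eq_of_testBit_eq fun i => ?_
            rw [Nat.testBit_xor, Nat.add_comm, Nat.testBit_two_pow]
            rcases Nat.lt_trichotomy i n with hi | hi | hi
            · rw [Nat.testBit_two_pow_add_gt hi]
              simp [(ne_of_lt hi).symm]
            · subst hi
              rw [Nat.testBit_two_pow_add_eq, Nat.testBit_eq_false_of_lt hw]
              simp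
            · rw [Nat.testBit_eq_false_of_lt (lt_trans hw (Nat.pow_lt_pow_right (by norm_num) hi)),
                Nat.testBit_eq_false_of_lt (n := 2 ^ n + (v - 2 ^ n))]
              · simp [ne_of_lt hi]
              · calc 2 ^ n + (v - 2 ^ n) < 2 ^ (n + 1) := by rw [pow_succ]; omega
                  _ ≤ 2 ^ i := Nat.pow_le_pow_right (by norm_num) hi
          omega
        rw [e, hf _ _ (lt_trans hw hp) hp, hg _ _ (lt_trans hw hp) hp, ih (by omega) _ hw,
          h n (by omega)]
  exact key 112 le_rfl v hv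

/-- checking two words on the basis -/
noncomputable def sameL (MS : List (List ℕ)) (n : ℕ) (w w' : List ℕ) : Bool :=
  (w.all fun c => c.blt n) && (w'.all fun c => c.blt n) &&
    (List.range 112).all fun i => Nat.beq (actL MS w (2 ^ i)) (actL MS w' (2 ^ i))

theorem rep_injective (hs : IsSimpleGroup G) : Function.Injective rep := by
  rw [← MonoidHom.ker_eq_bot_iff]
  refine (hs.eq_bot_or_eq_top_of_normal rep.ker inferInstance).resolve_right fun h => ?_
  exact rep_x_ne_one (show PresentedGroup.of Spor.J4.Gen.x ∈ rep.ker from h ▸ Subgroup.mem_top _)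

theorem eq_of_rv (hs : IsSimpleGroup G) {g h : G}
    (e : ∀ i < 112, rv g (2 ^ i) = rv h (2 ^ i)) : g = h := by
  refine rep_injective hs (Equiv.ext fun v => Subtype.ext ?_)
  have := eq_of_basis (fun a b ha hb => rv_xor g ha hb) (fun a b ha hb => rv_xor h ha hb) e v.2
  unfold rv at this
  rwa [dif_pos v.2, dif_pos v.2] at this

theorem eq_of_sameL (hs : IsSimpleGroup G) (ev : ℕ → G) (MS : List (List ℕ)) (n : ℕ)
    (hMS : ∀ c < n, Rp (ev c) (MS.getD c [])) {w w' : List ℕ} (h : sameL MS n w w' = true) :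
    gword ev w = gword ev w' := by
  rw [sameL, Bool.and_eq_true, Bool.and_eq_true] at h
  obtain ⟨⟨h1, h2⟩, h3⟩ := h
  refine eq_of_rv hs fun i hi => ?_
  have hp : 2 ^ i < 2 ^ 112 := Nat.pow_lt_pow_right (by norm_num) hi
  rw [rv_gword ev MS n hMS w h1 hp, rv_gword ev MS n hMS w' h2 hp]
  exact Nat.eq_of_beq_eq_true (List.all_eq_true.1 h3 i (List.mem_range.2 hi))

/-- a table for a word, verified on the basis -/
noncomputable def tabOK (MS : List (List ℕ)) (n : ℕ) (w : List ℕ) (M : List ℕ) : Bool :=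
  addOK M && (w.all fun c => c.blt n) &&
    (List.range 112).all fun i => Nat.beq (actL MS w (2 ^ i)) (vm M (2 ^ i))

theorem rp_of_tabOK (ev : ℕ → G) (MS : List (List ℕ)) (n : ℕ)
    (hMS : ∀ c < n, Rp (ev c) (MS.getD c [])) {w : List ℕ} {M : List ℕ}
    (h : tabOK MS n w M = true) : Rp (gword ev w) M := by
  rw [tabOK, Bool.and_eq_true, Bool.and_eq_true] at h
  obtain ⟨⟨h1, h2⟩, h3⟩ := h
  intro v hv
  refine eq_of_basis (fun a b ha hb => rv_xor _ ha hb) (fun a b _ _ => vm_xor M h1 a b) ?_ hv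
  intro i hi
  have hp : 2 ^ i < 2 ^ 112 := Nat.pow_lt_pow_right (by norm_num) hi
  rw [rv_gword ev MS n hMS w h2 hp]
  exact Nat.eq_of_beq_eq_true (List.all_eq_true.1 h3 i (List.mem_range.2 hi))

end CfsgLib.J4Aut79
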