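import Cfsg.Agent.J4Aut79.LinCert
import Cfsg.Agent.J4Aut79.TabC0

/-! Kernel checks of a centraliser certificate and of the witnesses against its combinations. -/

set_option autoImplicit false
set_option maxRecDepth 100000

namespace CfsgLib.J4Aut79

open CfsgLib.J4Rep112

/-- the certificate -/
def cert0 : Cert where
  mx := Tab0.mx
  msc := Tab0.msc
  node := Tab0.node
  ws := Tab0.ws
  lf := Tab0.lf
  pf := Tab0.pf
  mask := Tab0.mask
  tot := Tab0.tot
  par := Tab0.par
  bas := Tab0.bas
  fs := Tab0.fs
  coords := Tab0.coords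
  rels := Tab0.rels
  lmap := Tab0.lmap
  hs := Tab0.hs
  fr := Tab0.fr
  sb := Tab0.sb

/-- witness against a combination -/
noncomputable def witOK0 (m : ℕ) : Bool :=
  bif Nat.ble ((Tab0.wit.getD m []).getD 0 0) 2 then
    (([[4, 4], J4Rep112.words.getD 10 [], J4Rep112.words.getD 11 []] : List (List ℕ)).getD
      ((Tab0.wit.getD m []).getD 0 0) []).all (fun c => c.blt 6) &&
    ((Tab0.wit.getD m []).getD 1 0).blt 112 &&
    !(Nat.beq (actL [Tab0.mx, Tab0.mx, Tab.matY, Tab.matYi, cert0.sol m, cert0.sol m]
      (([[4, 4], J4Rep112.words.getD 10 [], J4Rep112.words.getD 11 []] : List (List ℕ)).getD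
        ((Tab0.wit.getD m []).getD 0 0) []) (2 ^ ((Tab0.wit.getD m []).getD 1 0)))
      (2 ^ ((Tab0.wit.getD m []).getD 1 0)))
  else bif Nat.beq ((Tab0.wit.getD m []).getD 0 0) 3 then
    (List.range 112).all fun i => Nat.beq (vm (cert0.sol m) (2 ^ i)) (vm Tab.matT (2 ^ i))
  else Nat.beq m 74

theorem cert0_ok : cert0.ok = true := by decide +kernel

theorem witA0 : ((List.range 32).all fun i => witOK0 i) = true := by decide +kernel

theorem witB0 : ((List.range 32).all fun i => witOK0 (32 + i)) = true := by decide +kernel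

theorem witC0 : ((List.range 32).all fun i => witOK0 (64 + i)) = true := by decide +kernel

theorem witD0 : ((List.range 32).all fun i => witOK0 (96 + i)) = true := by decide +kernel

theorem sb_length0 : cert0.sb.length = 7 := rfl

theorem wit0 {m : ℕ} (hm : m < 2 ^ cert0.sb.length) : witOK0 m = true := by
  rw [sb_length0] at hm
  rcases (by norm_num at hm; omega : m < 32 ∨ (32 ≤ m ∧ m < 64) ∨ (64 ≤ m ∧ m < 96) ∨
    (96 ≤ m ∧ m < 128)) with h | h | h | h
  · exact List.all_eq_true.1 witA0 m (List.mem_range.2 h)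
  · have := List.all_eq_true.1 witB0 (m - 32) (List.mem_range.2 (by omega))
    rwa [show 32 + (m - 32) = m by omega] at this
  · have := List.all_eq_true.1 witC0 (m - 64) (List.mem_range.2 (by omega))
    rwa [show 64 + (m - 64) = m by omega] at this
  · have := List.all_eq_true.1 witD0 (m - 96) (List.mem_range.2 (by omega))
    rwa [show 96 + (m - 96) = m by omega] at this

end CfsgLib.J4Aut79
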