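import Cfsg.Agent.J4Aut79.LinCert
import Cfsg.Agent.J4Aut79.TabC1

/-! Kernel checks of a centraliser certificate and of the witnesses against its combinations. -/

set_option autoImplicit false
set_option maxRecDepth 100000

namespace CfsgLib.J4Aut79

open CfsgLib.J4Rep112

/-- the certificate -/
def cert1 : Cert where
  mx := Tab1.mx
  msc := Tab1.msc
  node := Tab1.node
  ws := Tab1.ws
  lf := Tab1.lf
  pf := Tab1.pf
  mask := Tab1.mask
  tot := Tab1.tot
  par := Tab1.par
  bas := Tab1.bas
  fs := Tab1.fs
  coords := Tab1.coords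
  rels := Tab1.rels
  lmap := Tab1.lmap
  hs := Tab1.hs
  fr := Tab1.fr
  sb := Tab1.sb

/-- witness against a combination -/
noncomputable def witOK1 (m : ℕ) : Bool :=
  bif Nat.ble ((Tab1.wit.getD m []).getD 0 0) 2 then
    (([[4, 4], J4Rep112.words.getD 10 [], J4Rep112.words.getD 11 []] : List (List ℕ)).getD
      ((Tab1.wit.getD m []).getD 0 0) []).all (fun c => c.blt 6) &&
    ((Tab1.wit.getD m []).getD 1 0).blt 112 &&
    !(Nat.beq (actL [Tab1.mx, Tab1.mx, Tab.matY, Tab.matYi, cert1.sol m, cert1.sol m]
      (([[4, 4], J4Rep112.words.getD 10 [], J4Rep112.words.getD 11 []] : List (List ℕ)).getD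
        ((Tab1.wit.getD m []).getD 0 0) []) (2 ^ ((Tab1.wit.getD m []).getD 1 0)))
      (2 ^ ((Tab1.wit.getD m []).getD 1 0)))
  else bif Nat.beq ((Tab1.wit.getD m []).getD 0 0) 3 then
    (List.range 112).all fun i => Nat.beq (vm (cert1.sol m) (2 ^ i)) (vm Tab.matT (2 ^ i))
  else Nat.beq m 74

theorem cert1_ok : cert1.ok = true := by decide +kernel

theorem witA1 : ((List.range 32).all fun i => witOK1 i) = true := by decide +kernel

theorem witB1 : ((List.range 32).all fun i => witOK1 (32 + i)) = true := by decide +kernel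

theorem witC1 : ((List.range 32).all fun i => witOK1 (64 + i)) = true := by decide +kernel

theorem witD1 : ((List.range 32).all fun i => witOK1 (96 + i)) = true := by decide +kernel

theorem sb_length1 : cert1.sb.length = 7 := rfl

theorem wit1 {m : ℕ} (hm : m < 2 ^ cert1.sb.length) : witOK1 m = true := by
  rw [sb_length1] at hm
  rcases (by norm_num at hm; omega : m < 32 ∨ (32 ≤ m ∧ m < 64) ∨ (64 ≤ m ∧ m < 96) ∨
    (96 ≤ m ∧ m < 128)) with h | h | h | h
  · exact List.all_eq_true.1 witA1 m (List.mem_range.2 h)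
  · have := List.all_eq_true.1 witB1 (m - 32) (List.mem_range.2 (by omega))
    rwa [show 32 + (m - 32) = m by omega] at this
  · have := List.all_eq_true.1 witC1 (m - 64) (List.mem_range.2 (by omega))
    rwa [show 64 + (m - 64) = m by omega] at this
  · have := List.all_eq_true.1 witD1 (m - 96) (List.mem_range.2 (by omega))
    rwa [show 96 + (m - 96) = m by omega] at this

end CfsgLib.J4Aut79
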