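import Cfsg.Agent.J4Aut79.Model
import Cfsg.Agent.J4Index22.Index

/-!
The normaliser of the elementary abelian subgroup of order 2048 is `E K`, by way of the covering of
the group by twenty double cosets.
-/

set_option autoImplicit false
set_option maxRecDepth 100000

namespace CfsgLib.J4Aut79

open Cfsg CfsgLib.CosetEnum CfsgLib.J4Rep112

attribute [local irreducible] J4Index22.encP J4M24.phi J4Index22.one J4Index22.pk J4Index22.invAux

/-- one word for each coset step: earlier node and word in the first two generators -/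
def stepW : List (ℕ × List ℕ) := [(0, []), (1, [2]), (1, [2, 0, 2]), (2, [0, 2, 0, 3, 0, 2, 0, 2, 0, 3, 0, 3, 0, 2]), (2, [2]), (2, [3, 0, 3]), (2, [2, 0, 2]), (2, [0, 3, 0, 3]), (4, [0, 3, 0, 2, 0, 2]), (9, [0, 2, 0, 2, 0, 2]), (5, [2, 0, 2, 0, 2, 0, 2, 0, 3]), (11, [3, 0, 3, 0, 2, 0, 2, 0, 3]), (12, [2, 0, 2, 0, 3, 0, 2, 0, 2, 0, 2, 0, 3, 0, 3, 0, 2]), (13, [3]), (12, [0, 3]), (12, [2]), (14, [2, 0, 3, 0, 3, 0, 2, 0, 2, 0, 3, 0, 2, 0, 3]), (17, [2, 0, 3, 0, 2, 0, 2, 0, 3, 0, 3, 0, 2, 0, 2]), (18, [3, 0, 2, 0, 3, 0, 2, 0, 3, 0, 3, 0, 2, 0, 2])]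

/-- one word for each of the twenty representatives -/
def nodeW : List (List ℕ) := [[], [4], [4, 2, 4], [4, 2, 0, 2, 4], [4, 2, 4, 0, 2, 0, 3, 0, 2, 0, 2, 0, 3, 0, 3, 0, 2, 4], [4, 2, 4, 2, 4], [4, 2, 4, 3, 0, 3, 4], [4, 2, 4, 2, 0, 2, 4], [4, 2, 4, 0, 3, 0, 3, 4], [4, 2, 4, 0, 2, 0, 3, 0, 2, 0, 2, 0, 3, 0, 3, 0, 2, 4, 0, 3, 0, 2, 0, 2, 4], [4, 2, 4, 0, 2, 0, 3, 0, 2, 0, 2, 0, 3, 0, 3, 0, 2, 4, 0, 3, 0, 2, 0, 2, 4, 0, 2, 0, 2, 0, 2, 4], [4, 2, 4, 2, 4, 2, 0, 2, 0, 2, 0, 2, 0, 3, 4], [4, 2, 4, 2, 4, 2, 0, 2, 0, 2, 0, 2, 0, 3, 4, 3, 0, 3, 0, 2, 0, 2, 0, 3, 4], [4, 2, 4, 2, 4, 2, 0, 2, 0, 2, 0, 2, 0, 3, 4, 3, 0, 3, 0, 2, 0, 2, 0, 3, 4, 2, 0, 2, 0, 3, 0, 2, 0, 2, 0, 2, 0, 3, 0, 3, 0, 2, 4], [4, 2, 4, 2, 4, 2, 0, 2, 0, 2, 0, 2, 0, 3, 4, 3, 0, 3, 0, 2, 0, 2, 0, 3, 4, 2, 0, 2, 0, 3, 0, 2, 0, 2, 0, 2, 0, 3, 0, 3, 0, 2, 4, 3, 4], [4, 2, 4, 2, 4, 2, 0, 2, 0, 2, 0, 2, 0, 3, 4, 3, 0, 3, 0, 2, 0, 2, 0, 3, 4, 0, 3, 4], [4, 2, 4, 2, 4,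 2, 0, 2, 0, 2, 0, 2, 0, 3, 4, 3, 0, 3, 0, 2, 0, 2, 0, 3, 4, 2, 4], [4, 2, 4, 2, 4, 2, 0, 2, 0, 2, 0, 2, 0, 3, 4, 3, 0, 3, 0, 2, 0, 2, 0, 3, 4, 2, 0, 2, 0, 3, 0, 2, 0, 2, 0, 2, 0, 3, 0, 3, 0, 2, 4, 3, 4, 2, 0, 3, 0, 3, 0, 2, 0, 2, 0, 3, 0, 2, 0, 3, 4], [4, 2, 4, 2, 4, 2, 0, 2, 0, 2, 0, 2, 0, 3, 4, 3, 0, 3, 0, 2, 0, 2, 0, 3, 4, 2, 0, 2, 0, 3, 0, 2, 0, 2, 0, 2, 0, 3, 0, 3, 0, 2, 4, 3, 4, 2, 0, 3, 0, 3, 0, 2, 0, 2, 0, 3, 0, 2, 0, 3, 4, 2, 0, 3, 0, 2, 0, 2, 0, 3, 0, 3, 0, 2, 0, 2, 4], [4, 2, 4, 2, 4, 2, 0, 2, 0, 2, 0, 2, 0, 3, 4, 3, 0, 3, 0, 2, 0, 2, 0, 3, 4, 2, 0, 2, 0, 3, 0, 2, 0, 2, 0, 2, 0, 3, 0, 3, 0, 2, 4, 3, 4, 2, 0, 3, 0, 3, 0, 2, 0, 2, 0, 3, 0, 2, 0, 3, 4, 2, 0, 3, 0, 2, 0, 2, 0, 3, 0, 3, 0, 2, 0, 2, 4, 3, 0, 2, 0, 3, 0, 2, 0, 3, 0, 3, 0, 2, 0, 2, 4]]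

/-- code of a word in the first two generators -/
noncomputable def wcode : List ℕ → ℕ
  | [] => J4Index22.one
  | c :: w => J4Index22.mul
      (bif Nat.blt c 2 then J4Index22.cx else bif Nat.beq c 2 then J4Index22.cy else J4Index22.cyi)
      (wcode w)

/-- the step words match the nodes and the representatives -/
noncomputable def stepOK (k : ℕ) : Bool :=
  Nat.beq ((J4Index22.Tab.cert.nodes.getD k (0, 0)).1) (stepW.getD k (0, [])).1 &&
  Nat.beq ((J4Index22.Tab.cert.nodes.getD k (0, 0)).2) (wcode (stepW.getD k (0, [])).2) &&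
  ((stepW.getD k (0, [])).2.all fun c => Nat.blt c 4) &&
  decide (nodeW.getD (k + 1) [] = nodeW.getD (stepW.getD k (0, [])).1 [] ++
    ((stepW.getD k (0, [])).2 ++ [4]))

theorem steps_ok : ((List.range 19).all stepOK) = true := by decide +kernel

/-- a representative carrying an element of `E` off the centraliser of `E` -/
noncomputable def offOK (b : ℕ) : Bool :=
  (nodeW.getD b []).all (fun c => c.blt 6) &&
  !(Nat.beq (actL mse (nodeW.getD b [] ++ 6 :: ((nodeW.getD b []).reverse.map (fun c => c ^^^ 1) ++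
      [6])) 1)
    (actL mse (6 :: (nodeW.getD b [] ++ 6 :: (nodeW.getD b []).reverse.map (fun c => c ^^^ 1))) 1))

theorem off_ok : ((List.range 19).all fun k => offOK (k + 1)) = true := by decide +kernel

/-- the word of the third generator of the subgroup of index 173067389 -/
def mWord : List ℕ := [2, 0, 2, 0, 3, 0, 3, 0, 3, 0, 3, 4, 2, 0, 2, 0, 2, 0, 2, 0, 3, 0, 2, 0, 2, 0, 3, 0, 3, 0, 3, 0, 3, 4, 2, 0, 2, 0, 2, 0, 2, 0, 3, 0, 2, 0, 2, 0, 3, 0, 3, 0, 3, 0, 3, 4, 2, 0, 2, 0, 2, 0, 2, 0, 3, 0]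

theorem mWord_ok : sameL mse 17 mWord [6] = true := by decide +kernel

theorem enc_wcode : ∀ w : List ℕ, (w.all fun c => Nat.blt c 4) = true →
    J4Index22.encP (gword (J4M24.lets J4M24.px J4M24.py) w) = wcode w
  | [], _ => by rw [gword_nil, J4Index22.encP_one]; rfl
  | c :: w, h => by
    rw [List.all_cons, Bool.and_eq_true, Nat.blt, Nat.ble_eq] at h
    rw [gword_cons, J4Index22.encP_mul, enc_wcode w h.2, wcode]
    congr 1
    have hx : J4M24.px⁻¹ = J4M24.px := by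
      refine J4M24.incl_injective ?_
      rw [map_inv, show J4M24.incl J4M24.px = gx from PresentedGroup.toGroup.of _]
      exact inv_eq_of_mul_eq_one_right gx_mul_self
    have hc : c < 4 := h.1
    interval_cases c
    · exact J4Index22.encP_px
    · show J4Index22.encP J4M24.px⁻¹ = _
      rw [hx]
      exact J4Index22.encP_px
    · exact J4Index22.encP_py
    · exact J4Index22.encP_pyi

theorem val_wcode {w : List ℕ} (h : (w.all fun c => Nat.blt c 4) = true) :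
    J4Index22.model.val (wcode w) = gword (J4M24.lets gx gy) w := by
  rw [← enc_wcode w h]
  refine (J4Index22.model.val_enc _).trans ?_
  show J4M24.incl _ = _
  rw [J4M24.map_gword_lets, show J4M24.incl J4M24.px = gx from PresentedGroup.toGroup.of _,
    show J4M24.incl J4M24.py = gy from PresentedGroup.toGroup.of _]

theorem gword_lets : ∀ w : List ℕ, (w.all fun c => Nat.blt c 4) = true →
    gword (J4M24.lets gx gy) w = gword gl w
  | [], _ => rfl
  | c :: w, h => by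
    rw [List.all_cons, Bool.and_eq_true, Nat.blt, Nat.ble_eq] at h
    rw [gword_cons, gword_cons, gword_lets w h.2]
    congr 1
    have hc : c < 4 := h.1
    interval_cases c
    · rfl
    · exact inv_eq_of_mul_eq_one_right gx_mul_self
    · rfl
    · rfl

theorem nodes_lt : ∀ k a x : ℕ, J4Index22.Tab.cert.nodes[k]? = some (a, x) → a ≤ k :=
  fun k a x h => J4Index22.certOK.nodes_lt k a x h

theorem grep_word : ∀ b, b < 20 →
    DCert22.grep J4Index22.model J4Index22.Tab.cert b = gword gl (nodeW.getD b []) := by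
  intro b
  induction b using Nat.strong_induction_on with
  | _ b ih =>
    intro hb
    rcases b with _ | k
    · rfl
    have hk : k < 19 := by omega
    have h := List.all_eq_true.1 steps_ok k (List.mem_range.2 hk)
    simp only [stepOK, Bool.and_eq_true, Nat.beq_eq, decide_eq_true_eq] at h
    obtain ⟨⟨⟨h1, h2⟩, h3⟩, h4⟩ := h
    have hlen : k < J4Index22.Tab.cert.nodes.length := hk
    have hnode : J4Index22.Tab.cert.nodes[k]? =
        some (J4Index22.Tab.cert.nodes.getD k (0, 0)) := by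
      rw [List.getD_eq_getElem _ _ hlen, List.getElem?_eq_getElem hlen]
    have ha : (J4Index22.Tab.cert.nodes.getD k (0, 0)).1 ≤ k := nodes_lt k _ _ hnode
    rw [DCert22.grep]
    simp only [DCert22.gaux, hnode]
    rw [DCert22.gaux_eq _ _ nodes_lt _ _ (Nat.lt_succ_of_le ha),
      ih _ (by omega) (by omega), h1, h2, val_wcode h3, gword_lets _ h3, h4,
      J4M24.gword_append, J4M24.gword_append, gword_cons, gword_nil, mul_one, ← mul_assoc]
    rfl

variable (hs : IsSimpleGroup G)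
include hs

theorem mk_mF : PresentedGroup.mk (Spor.coxRelators Spor.J4.edges ∪ {r | r ∈ Spor.J4.extra})
    J4Index22.mF = ek 0 := by
  have hm : gword gl mWord = ek 0 := by
    have h := eq_of_sameL hs eL mse 17 rp_eL mWord_ok
    rw [gword_cons, gword_nil, mul_one, show eL 6 = ek 0 from eL_add 0] at h
    rw [← h]
    simp [mWord, gword_cons, gword_nil, eL, gl]
  have hxi : gx⁻¹ = gx := inv_eq_of_mul_eq_one_right gx_mul_self
  refine Eq.trans ?_ hm
  simp only [map_pow, map_mul, map_inv, mWord, gword_cons, gword_nil, gl, mul_one, pow_succ,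
      pow_zero, one_mul, mul_inv_rev, inv_inv, mul_assoc]
  show gy * _ = _
  rw [show (PresentedGroup.mk _ Spor.J4.x : G) = gx from rfl,
      show (PresentedGroup.mk _ Spor.J4.y : G) = gy from rfl,
      show (PresentedGroup.mk _ Spor.J4.t : G) = gt from rfl, hxi]
  simp [mul_assoc]

theorem bigM_le : J4Index22.bigM ≤ Subgroup.normalizer (E : Set G) := by
  rw [J4Index22.bigM, MonoidHom.map_closure, Subgroup.closure_le]
  rintro _ ⟨g, hg, rfl⟩
  rcases hg with rfl | rfl | rfl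
  · exact K_le_normalizer hs (Subgroup.subset_closure (Or.inl rfl))
  · exact K_le_normalizer hs (Subgroup.subset_closure (Or.inr rfl))
  · rw [SetLike.mem_coe, mk_mF hs]
    exact Subgroup.le_normalizer (ek_mem (by norm_num))

theorem bigM_gens : ∀ g ∈ (PresentedGroup.mk (Spor.coxRelators Spor.J4.edges ∪
    {r | r ∈ Spor.J4.extra})) '' ({Spor.J4.x, Spor.J4.y, J4Index22.mF} : Set _), g ∈ MM hs := by
  rintro _ ⟨g, hg, rfl⟩
  rcases hg with rfl | rfl | rfl
  · exact K_le_MM hs (Subgroup.subset_closure (Or.inl rfl))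
  · exact K_le_MM hs (Subgroup.subset_closure (Or.inr rfl))
  · rw [mk_mF hs]
    exact E_le_MM hs (ek_mem (by norm_num))

theorem gword_inv : ∀ w : List ℕ, (w.all fun c => c.blt 6) = true → gt⁻¹ = gt →
    gword eL (w.reverse.map fun c => c ^^^ 1) = (gword gl w)⁻¹
  | [], _, _ => by rw [gword_nil, inv_one]; rfl
  | c :: w, h, ht => by
    rw [List.all_cons, Bool.and_eq_true, Nat.blt, Nat.ble_eq] at h
    rw [List.reverse_cons, List.map_append, J4M24.gword_append, gword_inv w h.2 ht, gword_cons,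
      mul_inv_rev]
    congr 1
    show gword eL [c ^^^ 1] = _
    have hc : c < 6 := h.1
    rw [gword_cons, gword_nil, mul_one]
    have hxi : gx⁻¹ = gx := inv_eq_of_mul_eq_one_right gx_mul_self
    interval_cases c
    · exact hxi.symm
    · exact hxi.symm
    · rfl
    · exact (inv_inv gy).symm
    · exact ht.symm
    · exact ht.symm

theorem gword_eL_of_lt : ∀ w : List ℕ, (w.all fun c => c.blt 6) = true →
    gword eL w = gword gl w
  | [], _ => rfl
  | c :: w, h => by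
    rw [List.all_cons, Bool.and_eq_true, Nat.blt, Nat.ble_eq] at h
    rw [gword_cons, gword_cons, gword_eL_of_lt w h.2, eL_lt h.1]

theorem mem_MM_of_normalises (ht : gt⁻¹ = gt) (g : G) (hg : ∀ e ∈ E, g * e * g⁻¹ ∈ E) :
    g ∈ MM hs := by
  haveI := finite_G hs
  have hgN : g ∈ Subgroup.normalizer (E : Set G) := by
    refine Subgroup.mem_normalizer_iff.2 fun e => ⟨hg e, fun he => ?_⟩
    have hmap : E.map (MulAut.conj g).toMonoidHom = E := by
      refine Subgroup.eq_of_le_of_card_ge ?_ (le_of_eq ?_)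
      · rintro _ ⟨a, ha, rfl⟩
        exact hg a ha
      · exact Nat.card_congr (E.equivMapOfInjective _ (MulAut.conj g).injective).toEquiv
    rw [← hmap] at he
    obtain ⟨a, ha, hae⟩ := he
    rwa [← (MulAut.conj g).injective hae]
  obtain ⟨b, hb, c, hc, hrel⟩ := J4Index22.hall g
  obtain ⟨p, rfl⟩ := hc
  rw [DCert22.Rel, DCert22.stVal, J4Index22.model.val_enc] at hrel
  have hk : J4Index22.model.hom p ∈ K := incl_range_eq ▸ ⟨p, rfl⟩
  have hbN : DCert22.grep J4Index22.model J4Index22.Tab.cert b ∈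
      Subgroup.normalizer (E : Set G) := by
    have h2 := mul_mem (inv_mem (bigM_le hs hrel)) hgN
    rw [mul_inv_rev, inv_inv, inv_mul_cancel_right] at h2
    have h3 := mul_mem h2 (inv_mem (K_le_normalizer hs hk))
    rwa [mul_inv_cancel_right] at h3
  have hb20 : b < 20 := by
    simp only [J4Index22.liveJ, List.mem_cons, List.not_mem_nil, or_false] at hb
    omega
  rcases b with _ | k
  · have hMM : J4Index22.bigM ≤ MM hs := by
      rw [J4Index22.bigM, MonoidHom.map_closure, Subgroup.closure_le]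
      have h := bigM_gens hs
      exact h
    have : DCert22.grep J4Index22.model J4Index22.Tab.cert 0 = 1 := rfl
    rw [this, one_mul] at hrel
    have h2 := mul_mem (hMM hrel) (K_le_MM hs hk)
    rwa [inv_mul_cancel_right] at h2
  exfalso
  rw [grep_word _ hb20] at hbN
  have hoff := List.all_eq_true.1 off_ok k (List.mem_range.2 (by omega))
  rw [offOK, Bool.and_eq_true, Bool.not_eq_true'] at hoff
  obtain ⟨hw, hne⟩ := hoff
  set w := nodeW.getD (k + 1) []
  have hmem : gword gl w * ek 0 * (gword gl w)⁻¹ ∈ E :=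
    (Subgroup.mem_normalizer_iff.1 hbN _).1 (ek_mem (by norm_num))
  have hcomm := E_comm hs hmem (ek_mem (k := 0) (by norm_num))
  have e1 : gword eL (w ++ 6 :: ((w.reverse.map fun c => c ^^^ 1) ++ [6])) =
      gword eL (6 :: (w ++ 6 :: w.reverse.map fun c => c ^^^ 1)) := by
    simp only [J4M24.gword_append, gword_cons, gword_nil, mul_one, gword_inv hs w hw ht,
      gword_eL_of_lt hs w hw, show eL 6 = ek 0 from eL_add 0, ← mul_assoc]
    exact hcomm.trans (by simp only [mul_assoc])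
  have hall : ∀ v : List ℕ, (v.all fun c => c.blt 6) = true →
      ((v.reverse.map fun c => c ^^^ 1).all fun c => c.blt 17) = true ∧
        (v.all fun c => c.blt 17) = true := by
    intro v hv
    simp only [List.all_eq_true, Nat.blt, Nat.ble_eq] at hv ⊢
    refine ⟨fun c hc => ?_, fun c hc => le_trans (hv c hc) (by norm_num : (6 : ℕ) ≤ 17)⟩
    obtain ⟨d, hd, rfl⟩ := List.mem_map.1 hc
    have : d < 6 := hv d (List.mem_reverse.1 hd)
    interval_cases d <;> decide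
  obtain ⟨hr, hw17⟩ := hall w hw
  have l1 : ((w ++ 6 :: ((w.reverse.map fun c => c ^^^ 1) ++ [6])).all fun c => c.blt 17) = true := by
    rw [List.all_append, List.all_cons, List.all_append, hr, hw17]
    rfl
  have l2 : ((6 :: (w ++ 6 :: w.reverse.map fun c => c ^^^ 1)).all fun c => c.blt 17) = true := by
    rw [List.all_cons, List.all_append, List.all_cons, hr, hw17]
    rfl
  have h1 := congrArg (fun z => rv z 1) e1
  simp only [rv_gword eL mse 17 rp_eL _ l1 (show (1 : ℕ) < 2 ^ 112 by norm_num),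
    rv_gword eL mse 17 rp_eL _ l2 (show (1 : ℕ) < 2 ^ 112 by norm_num)] at h1
  rw [h1, Nat.beq_refl] at hne
  exact Bool.noConfusion hne

end CfsgLib.J4Aut79
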