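import Cfsg.Agent.J4Aut79.Base
import Cfsg.Agent.J4Aut79.TabE

/-! Kernel checks for the elements of the elementary abelian subgroup. -/

set_option autoImplicit false
set_option maxRecDepth 100000

namespace CfsgLib.J4Aut79

open CfsgLib.J4Rep112

/-- tables of the six letters and the eleven elements -/
def mse : List (List ℕ) := mats ++ Tab.em

/-- images of the basis under the first generator -/
def matEX : List ℕ := [2, 1, 16, 32, 4, 8, 256, 512, 64, 128, 1344]

/-- images of the basis under the second generator -/
def matEY : List ℕ := [1, 4, 8, 2, 64, 182, 128, 16, 268, 1024, 1708]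

/-- word of a combination -/
def evWN : ℕ → ℕ → List ℕ
  | 0, _ => []
  | n + 1, v => evWN n v ++ (bif v.testBit n then [6 + n] else [])

/-- one element table -/
noncomputable def emOK (k : ℕ) : Bool := tabOK mats 6 (Tab.ew.getD k []) (Tab.em.getD k [])

theorem em_ok0 : emOK 0 = true := by decide +kernel

theorem em_ok1 : emOK 1 = true := by decide +kernel

theorem em_ok2 : emOK 2 = true := by decide +kernel

theorem em_ok3 : emOK 3 = true := by decide +kernel

theorem em_ok4 : emOK 4 = true := by decide +kernel

theorem em_ok5 : emOK 5 = true := by decide +kernel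

theorem em_ok6 : emOK 6 = true := by decide +kernel

theorem em_ok7 : emOK 7 = true := by decide +kernel

theorem em_ok8 : emOK 8 = true := by decide +kernel

theorem em_ok9 : emOK 9 = true := by decide +kernel

theorem em_ok10 : emOK 10 = true := by decide +kernel

theorem square_ok : sameL mse 17 [6, 6] [] = true := by decide +kernel

theorem comm_ok : ((List.range 11).all fun k => sameL mse 17 [6, 6 + k] [6 + k, 6]) = true := by
  decide +kernel

theorem conjX_ok :
    ((List.range 11).all fun k => sameL mse 17 [0, 6 + k, 0] (evWN 11 (matEX.getD k 0))) = true := by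
  decide +kernel

theorem conjY_ok :
    ((List.range 11).all fun k => sameL mse 17 [3, 6 + k, 2] (evWN 11 (matEY.getD k 0))) = true := by
  decide +kernel

end CfsgLib.J4Aut79
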