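import Cfsg.Agent.J4Aut79.EFacts

/-!
The elementary abelian subgroup of order 2048 and its normalisation by the subgroup `M24`.
-/

set_option autoImplicit false
set_option maxRecDepth 100000

namespace CfsgLib.J4Aut79

open Cfsg CfsgLib.CosetEnum CfsgLib.J4Rep112

/-- the eleven elements -/
def ek (k : ℕ) : G := gword gl (Tab.ew.getD k [])

/-- seventeen letters -/
def eL (c : ℕ) : G := if c < 6 then gl c else ek (c - 6)

theorem rp_ek {k : ℕ} (hk : k < 11) : Rp (ek k) (Tab.em.getD k []) := by
  refine rp_of_tabOK gl mats 6 (fun c hc => rp_letter hc) ?_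
  interval_cases k
  exacts [em_ok0, em_ok1, em_ok2, em_ok3, em_ok4, em_ok5, em_ok6, em_ok7, em_ok8, em_ok9, em_ok10]

theorem rp_eL : ∀ c < 17, Rp (eL c) (mse.getD c []) := by
  intro c hc
  have h6 : mats.length = 6 := rfl
  unfold eL mse
  by_cases h : c < 6
  · rw [if_pos h, List.getD_append _ _ _ _ (h6 ▸ h)]
    exact rp_letter h
  · rw [if_neg h, List.getD_append_right _ _ _ _ (by omega), h6]
    exact rp_ek (by omega)

theorem eL_add (k : ℕ) : eL (6 + k) = ek k := by
  rw [eL, if_neg (by omega), Nat.add_sub_cancel_left]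

theorem eL_lt {c : ℕ} (h : c < 6) : eL c = gl c := if_pos h

/-- products of the elements -/
def evN : ℕ → ℕ → G
  | 0, _ => 1
  | n + 1, v => evN n v * (bif v.testBit n then ek n else 1)

/-- products of the eleven elements -/
def ev (v : ℕ) : G := evN 11 v

theorem gword_evWN : ∀ n v, gword eL (evWN n v) = evN n v
  | 0, _ => rfl
  | n + 1, v => by
    rw [evWN, J4M24.gword_append, gword_evWN n v, evN]
    cases v.testBit n
    · rfl
    · show evN n v * gword eL [6 + n] = _
      rw [gword_cons, gword_nil, mul_one, eL_add]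
      rfl

variable (hs : IsSimpleGroup G)
include hs

theorem ek_zero_mul_self : ek 0 * ek 0 = 1 := by
  have h := eq_of_sameL hs eL mse 17 rp_eL square_ok
  have e6 : eL 6 = ek 0 := eL_add 0
  rwa [gword_cons, gword_cons, gword_nil, mul_one, e6] at h

theorem ek_zero_comm {k : ℕ} (hk : k < 11) : ek 0 * ek k = ek k * ek 0 := by
  have h := eq_of_sameL hs eL mse 17 rp_eL (List.all_eq_true.1 comm_ok k (List.mem_range.2 hk))
  have e6 : eL 6 = ek 0 := eL_add 0
  rwa [gword_cons, gword_cons, gword_nil, mul_one, gword_cons, gword_cons, gword_nil, mul_one,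
    e6, eL_add] at h

theorem conjX {k : ℕ} (hk : k < 11) : gx * ek k * gx = ev (matEX.getD k 0) := by
  have h := eq_of_sameL hs eL mse 17 rp_eL (List.all_eq_true.1 conjX_ok k (List.mem_range.2 hk))
  rw [gword_evWN, gword_cons, gword_cons, gword_cons, gword_nil, mul_one, eL_add,
    eL_lt (show 0 < 6 by norm_num), ← mul_assoc] at h
  exact h

theorem conjY {k : ℕ} (hk : k < 11) : gy⁻¹ * ek k * gy = ev (matEY.getD k 0) := by
  have h := eq_of_sameL hs eL mse 17 rp_eL (List.all_eq_true.1 conjY_ok k (List.mem_range.2 hk))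
  rw [gword_evWN, gword_cons, gword_cons, gword_cons, gword_nil, mul_one, eL_add,
    eL_lt (show 2 < 6 by norm_num), eL_lt (show 3 < 6 by norm_num), ← mul_assoc] at h
  exact h

omit hs

/-- the subgroup generated by the eleven elements -/
def E : Subgroup G := Subgroup.closure {g | ∃ k < 11, ek k = g}

/-- the subgroup on the first two generators -/
def K : Subgroup G := Subgroup.closure {gx, gy}

theorem ek_mem {k : ℕ} (hk : k < 11) : ek k ∈ E := Subgroup.subset_closure ⟨k, hk, rfl⟩

theorem evN_mem : ∀ n ≤ 11, ∀ v, evN n v ∈ E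
  | 0, _, _ => one_mem _
  | n + 1, hn, v => by
    rw [evN]
    refine mul_mem (evN_mem n (by omega) v) ?_
    cases v.testBit n
    · exact one_mem _
    · exact ek_mem (by omega)

theorem ev_mem (v : ℕ) : ev v ∈ E := evN_mem 11 le_rfl v

theorem evN_two_pow (k : ℕ) : ∀ n, evN n (2 ^ k) = if k < n then ek k else 1
  | 0 => rfl
  | n + 1 => by
    rw [evN, evN_two_pow k n, Nat.testBit_two_pow]
    rcases Nat.lt_trichotomy k n with h | rfl | h
    · simp [h, h.ne, Nat.lt_succ_of_lt h]
    · simp
    · simp [h.ne', show ¬ k < n by omega, show ¬ k < n + 1 by omega]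

theorem ev_two_pow {k : ℕ} (hk : k < 11) : ev (2 ^ k) = ek k := by
  rw [ev, evN_two_pow, if_pos hk]

include hs

theorem conj_mem {g : G} (hg : g = gx ∨ g = gy) {e : G} (he : e ∈ E) : g⁻¹ * e * g ∈ E := by
  induction he using Subgroup.closure_induction with
  | mem x hx =>
    obtain ⟨k, hk, rfl⟩ := hx
    rcases hg with rfl | rfl
    · rw [inv_eq_of_mul_eq_one_right gx_mul_self, conjX hs hk]
      exact ev_mem _
    · rw [conjY hs hk]
      exact ev_mem _
  | one => simp
  | mul a b _ _ ha hb =>
    rw [show g⁻¹ * (a * b) * g = (g⁻¹ * a * g) * (g⁻¹ * b * g) by group]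
    exact mul_mem ha hb
  | inv a _ ha =>
    rw [show g⁻¹ * a⁻¹ * g = (g⁻¹ * a * g)⁻¹ by group]
    exact inv_mem ha

theorem K_le_normalizer : K ≤ Subgroup.normalizer (E : Set G) := by
  haveI : Finite G := by
    haveI : Finite Vec := Finite.of_injective (fun v : Vec => (⟨v.1, v.2⟩ : Fin (2 ^ 112)))
      fun a b h => Subtype.ext (congrArg Fin.val h)
    exact Finite.of_injective rep (rep_injective hs)
  rw [K, Subgroup.closure_le]
  intro g hg
  have hsub : ∀ e ∈ E, g⁻¹ * e * g ∈ E := fun e he =>
    conj_mem hs (by simpa using hg) he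
  rw [SetLike.mem_coe, ← inv_inv g]
  refine inv_mem ?_
  refine Subgroup.mem_normalizer_fintype ?_
  intro e he
  simpa using hsub e he

theorem ek_centralizes {k : ℕ} (hk : k < 11) : ek k ∈ Subgroup.centralizer (E : Set G) := by
  have hN := K_le_normalizer hs
  have step : ∀ g : G, g ∈ K → ∀ a ∈ Subgroup.centralizer (E : Set G),
      g⁻¹ * a * g ∈ Subgroup.centralizer (E : Set G) := by
    intro g hg a ha
    rw [Subgroup.mem_centralizer_iff]
    intro e he
    have he' : g * e * g⁻¹ ∈ E := (Subgroup.mem_normalizer_iff.1 (hN hg) e).1 he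
    have h := Subgroup.mem_centralizer_iff.1 ha _ he'
    calc e * (g⁻¹ * a * g) = g⁻¹ * (g * e * g⁻¹ * a) * g := by group
      _ = g⁻¹ * (a * (g * e * g⁻¹)) * g := by rw [h]
      _ = g⁻¹ * a * g * e := by group
  have h0 : ek 0 ∈ Subgroup.centralizer (E : Set G) := by
    rw [E, Subgroup.centralizer_closure, Subgroup.mem_centralizer_iff]
    rintro _ ⟨j, hj, rfl⟩
    exact (ek_zero_comm hs hj).symm
  have hX : ∀ {a b : ℕ}, a < 11 → b < 11 → matEX.getD a 0 = 2 ^ b →
      ek a ∈ Subgroup.centralizer (E : Set G) → ek b ∈ Subgroup.centralizer (E : Set G) := by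
    intro a b ha hb hm hc
    have h := step gx (Subgroup.subset_closure (Or.inl rfl)) _ hc
    rwa [inv_eq_of_mul_eq_one_right gx_mul_self, conjX hs ha, hm, ev_two_pow hb] at h
  have hY : ∀ {a b : ℕ}, a < 11 → b < 11 → matEY.getD a 0 = 2 ^ b →
      ek a ∈ Subgroup.centralizer (E : Set G) → ek b ∈ Subgroup.centralizer (E : Set G) := by
    intro a b ha hb hm hc
    have h := step gy (Subgroup.subset_closure (Or.inr rfl)) _ hc
    rwa [conjY hs ha, hm, ev_two_pow hb] at h
  have h1 := hX (a := 0) (b := 1) (by norm_num) (by norm_num) rfl h0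
  have h2 := hY (a := 1) (b := 2) (by norm_num) (by norm_num) rfl h1
  have h3 := hY (a := 2) (b := 3) (by norm_num) (by norm_num) rfl h2
  have h4 := hX (a := 2) (b := 4) (by norm_num) (by norm_num) rfl h2
  have h5 := hX (a := 3) (b := 5) (by norm_num) (by norm_num) rfl h3
  have h6 := hY (a := 4) (b := 6) (by norm_num) (by norm_num) rfl h4
  have h7 := hY (a := 6) (b := 7) (by norm_num) (by norm_num) rfl h6
  have h8 := hX (a := 6) (b := 8) (by norm_num) (by norm_num) rfl h6
  have h9 := hX (a := 7) (b := 9) (by norm_num) (by norm_num) rfl h7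
  have h10 := hY (a := 9) (b := 10) (by norm_num) (by norm_num) rfl h9
  interval_cases k
  exacts [h0, h1, h2, h3, h4, h5, h6, h7, h8, h9, h10]

theorem E_comm {a b : G} (ha : a ∈ E) (hb : b ∈ E) : a * b = b * a := by
  have hle : E ≤ Subgroup.centralizer (E : Set G) := by
    conv_lhs => rw [E]
    rw [Subgroup.closure_le]
    rintro _ ⟨k, hk, rfl⟩
    exact ek_centralizes hs hk
  exact Subgroup.mem_centralizer_iff.1 (hle hb) a ha

theorem ek_mul_self {k : ℕ} (hk : k < 11) : ek k * ek k = 1 := by
  have h0 := ek_zero_mul_self hs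
  have step : ∀ g a : G, a * a = 1 → (g⁻¹ * a * g) * (g⁻¹ * a * g) = 1 := fun g a h => by
    rw [show (g⁻¹ * a * g) * (g⁻¹ * a * g) = g⁻¹ * (a * a) * g by group, h]
    group
  have hX : ∀ {a b : ℕ}, a < 11 → b < 11 → matEX.getD a 0 = 2 ^ b →
      ek a * ek a = 1 → ek b * ek b = 1 := by
    intro a b ha hb hm hc
    have h := step gx _ hc
    rwa [inv_eq_of_mul_eq_one_right gx_mul_self, conjX hs ha, hm, ev_two_pow hb] at h
  have hY : ∀ {a b : ℕ}, a < 11 → b < 11 → matEY.getD a 0 = 2 ^ b →
      ek a * ek a = 1 → ek b * ek b = 1 := by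
    intro a b ha hb hm hc
    have h := step gy _ hc
    rwa [conjY hs ha, hm, ev_two_pow hb] at h
  have h1 := hX (a := 0) (b := 1) (by norm_num) (by norm_num) rfl h0
  have h2 := hY (a := 1) (b := 2) (by norm_num) (by norm_num) rfl h1
  have h3 := hY (a := 2) (b := 3) (by norm_num) (by norm_num) rfl h2
  have h4 := hX (a := 2) (b := 4) (by norm_num) (by norm_num) rfl h2
  have h5 := hX (a := 3) (b := 5) (by norm_num) (by norm_num) rfl h3
  have h6 := hY (a := 4) (b := 6) (by norm_num) (by norm_num) rfl h4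
  have h7 := hY (a := 6) (b := 7) (by norm_num) (by norm_num) rfl h6
  have h8 := hX (a := 6) (b := 8) (by norm_num) (by norm_num) rfl h6
  have h9 := hX (a := 7) (b := 9) (by norm_num) (by norm_num) rfl h7
  have h10 := hY (a := 9) (b := 10) (by norm_num) (by norm_num) rfl h9
  interval_cases k
  exacts [h0, h1, h2, h3, h4, h5, h6, h7, h8, h9, h10]

theorem evN_mul : ∀ n ≤ 11, ∀ v w, evN n v * evN n w = evN n (v ^^^ w)
  | 0, _, _, _ => one_mul _
  | n + 1, hn, v, w => by
    have hk : ek n ∈ E := ek_mem (by omega)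
    rw [evN, evN, evN, ← evN_mul n (by omega) v w, Nat.testBit_xor]
    have hw := evN_mem (n := n) (by omega) w
    have hc := E_comm hs hk hw
    have h2 := ek_mul_self hs (show n < 11 by omega)
    cases v.testBit n <;> cases w.testBit n <;>
      simp only [cond_true, cond_false, mul_one, Bool.xor_false, Bool.xor_true, Bool.not_false,
        Bool.not_true, bne_self_eq_false, Bool.false_bne, Bool.true_bne]
    · rw [mul_assoc]
    · rw [mul_assoc, hc, ← mul_assoc]
    · calc evN n v * ek n * (evN n w * ek n)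
          = evN n v * (ek n * evN n w) * ek n := by group
        _ = evN n v * (evN n w * ek n) * ek n := by rw [hc]
        _ = evN n v * evN n w * (ek n * ek n) := by group
        _ = evN n v * evN n w := by rw [h2, mul_one]

theorem ev_mul (v w : ℕ) : ev v * ev w = ev (v ^^^ w) := evN_mul hs 11 le_rfl v w

end CfsgLib.J4Aut79
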