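import Cfsg.Agent.J4Aut79.Base

/-!
A certificate that every additive map of bit masks commuting with two given maps lies in the span of
given maps.
-/

set_option autoImplicit false
set_option maxRecDepth 100000

namespace CfsgLib.J4Aut79

open CfsgLib.J4Rep112

/-- sum of selected values -/
def xorSel (c : ℕ) (f : ℕ → ℕ) : ℕ → ℕ
  | 0 => 0
  | n + 1 => xorSel c f n ^^^ (bif c.testBit n then f n else 0)

theorem xorSel_congr {c : ℕ} {f g : ℕ → ℕ} : ∀ {n}, (∀ k < n, c.testBit k = true → f k = g k) →
    xorSel c f n = xorSel c g n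
  | 0, _ => rfl
  | n + 1, h => by
    rw [xorSel, xorSel, xorSel_congr fun k hk => h k (Nat.lt_succ_of_lt hk)]
    cases hb : c.testBit n
    · rfl
    · rw [cond_true, cond_true, h n (Nat.lt_succ_self n) hb]

theorem xorSel_xor (a b : ℕ) (f : ℕ → ℕ) :
    ∀ n, xorSel (a ^^^ b) f n = xorSel a f n ^^^ xorSel b f n
  | 0 => by simp [xorSel]
  | n + 1 => by
    rw [xorSel, xorSel, xorSel, xorSel_xor a b f n, Nat.testBit_xor]
    cases a.testBit n <;> cases b.testBit n <;>
      simp [Nat.xor_assoc, Nat.xor_comm, Nat.xor_left_comm]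

theorem xorSel_zero_left (f : ℕ → ℕ) : ∀ n, xorSel 0 f n = 0
  | 0 => rfl
  | n + 1 => by simp [xorSel, xorSel_zero_left f n]

theorem xorSel_fxor (c : ℕ) (f g : ℕ → ℕ) :
    ∀ n, xorSel c (fun k => f k ^^^ g k) n = xorSel c f n ^^^ xorSel c g n
  | 0 => by simp [xorSel]
  | n + 1 => by
    rw [xorSel, xorSel, xorSel, xorSel_fxor c f g n]
    cases c.testBit n <;> simp [Nat.xor_assoc, Nat.xor_comm, Nat.xor_left_comm]

theorem map_xorSel {φ : ℕ → ℕ} (h : ∀ a b, φ (a ^^^ b) = φ a ^^^ φ b) (c : ℕ) (f : ℕ → ℕ) :
    ∀ n, φ (xorSel c f n) = xorSel c (fun k => φ (f k)) n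
  | 0 => by
    have := h 0 0
    simp only [Nat.xor_self] at this
    simpa [xorSel] using this
  | n + 1 => by
    rw [xorSel, xorSel, h, map_xorSel h c f n]
    cases c.testBit n
    · have := h 0 0
      simp only [Nat.xor_self] at this
      simp [this]
    · rfl

theorem xorSel_swap (a c : ℕ) (f : ℕ → ℕ → ℕ) (m : ℕ) : ∀ n,
    xorSel a (fun i => xorSel c (fun k => f i k) m) n =
      xorSel c (fun k => xorSel a (fun i => f i k) n) m
  | 0 => by
    show 0 = _
    induction m with
    | zero => rfl
    | succ m ih => rw [xorSel, ← ih]; cases c.testBit m <;> simp [xorSel]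
  | n + 1 => by
    rw [xorSel, xorSel_swap a c f m n]
    cases hb : a.testBit n
    · rw [cond_false, Nat.xor_zero]
      exact xorSel_congr fun k _ _ => by rw [xorSel, hb, cond_false, Nat.xor_zero]
    · rw [cond_true, ← xorSel_fxor]
      exact xorSel_congr fun k _ _ => by rw [xorSel, hb, cond_true]

theorem xorSel_eq_zero {c : ℕ} {f : ℕ → ℕ} : ∀ {n},
    (∀ k < n, c.testBit k = true → f k = 0) → xorSel c f n = 0 := by
  intro n h
  rw [xorSel_congr (g := fun _ => 0) h]
  induction n with
  | zero => rfl
  | succ n ih =>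
    rw [xorSel, ih fun k hk => h k (Nat.lt_succ_of_lt hk)]
    cases c.testBit n <;> rfl

theorem xorSel_bits (c : ℕ) (f : ℕ → ℕ) (n : ℕ) :
    xorSel (xorSel c (fun k => 2 ^ k) n) f n = xorSel c f n := by
  have hb : ∀ m i, (xorSel c (fun k => 2 ^ k) m).testBit i = (decide (i < m) && c.testBit i) := by
    intro m
    induction m with
    | zero => intro i; simp [xorSel]
    | succ m ih =>
      intro i
      rw [xorSel, Nat.testBit_xor, ih]
      rcases Nat.lt_trichotomy i m with h | rfl | h
      · cases c.testBit m <;> simp [h, Nat.testBit_two_pow, h.ne', Nat.lt_succ_of_lt h]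
      · cases c.testBit i <;> simp [Nat.testBit_two_pow]
      · cases c.testBit m <;>
          simp [Nat.testBit_two_pow, h.ne, show ¬ i < m by omega, show ¬ i < m + 1 by omega]
  have key : ∀ m ≤ n, xorSel (xorSel c (fun k => 2 ^ k) n) f m = xorSel c f m := by
    intro m
    induction m with
    | zero => intro _; rfl
    | succ m ih => intro hm; rw [xorSel, xorSel, ih (by omega), hb]; simp [show m < n by omega]
  exact key n le_rfl

/-- pieces of width 112 -/
def pack : List ℕ → ℕ
  | [] => 0
  | a :: l => a ^^^ pack l <<< 112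

theorem pack_xor : ∀ {α : Type} (l : List α) (f g : α → ℕ),
    pack (l.map fun a => f a ^^^ g a) = pack (l.map f) ^^^ pack (l.map g) := by
  intro α l f g
  induction l with
  | nil => simp [pack]
  | cons a l ih =>
    simp only [List.map_cons, pack, ih, Nat.shiftLeft_xor_distrib]
    simp [Nat.xor_assoc, Nat.xor_comm, Nat.xor_left_comm]

theorem pack_zero : ∀ {α : Type} (l : List α), pack (l.map fun _ => 0) = 0 := by
  intro α l
  induction l with
  | nil => rfl
  | cons a l ih => simp only [List.map_cons, pack]; rw [ih]; simp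

theorem pack_xorSel {α : Type} (c : ℕ) (l : List α) (f : ℕ → α → ℕ) :
    ∀ n, pack (l.map fun a => xorSel c (fun k => f k a) n) = xorSel c (fun k => pack (l.map (f k))) n
  | 0 => pack_zero l
  | n + 1 => by
    simp only [xorSel]
    rw [pack_xor, pack_xorSel c l f n]
    cases c.testBit n
    · simp only [cond_false]; rw [pack_zero]
    · rfl

theorem entry_xor (T T' a : ℕ) : entry (T ^^^ T') a = entry T a ^^^ entry T' a := by
  show (T ^^^ T') >>> (112 * a) % 5192296858534827628530496329220096 =
    (T >>> (112 * a) % 5192296858534827628530496329220096) ^^^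
      (T' >>> (112 * a) % 5192296858534827628530496329220096)
  rw [show (5192296858534827628530496329220096 : ℕ) = 2 ^ 112 by norm_num,
    Nat.shiftRight_xor_distrib, Nat.xor_mod_two_pow]

theorem entry_zero (a : ℕ) : entry 0 a = 0 := by
  show 0 >>> (112 * a) % 5192296858534827628530496329220096 = 0
  simp

theorem vm_map_xor : ∀ (l : List ℕ) (f g : ℕ → ℕ) (v : ℕ),
    vm (l.map fun x => f x ^^^ g x) v = vm (l.map f) v ^^^ vm (l.map g) v
  | [], _, _, _ => by simp [vm_nil]
  | x :: l, f, g, v => by
    simp only [List.map_cons, vm_cons, entry_xor, vm_map_xor l f g]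
    simp [Nat.xor_assoc, Nat.xor_comm, Nat.xor_left_comm]

theorem vm_map_zero : ∀ (l : List ℕ) (v : ℕ), vm (l.map fun _ => 0) v = 0
  | [], _ => vm_nil _
  | x :: l, v => by simp only [List.map_cons, vm_cons, entry_zero, vm_map_zero l, Nat.xor_zero]

theorem vm_xorSel (m : ℕ) (l : List ℕ) (T : ℕ → ℕ → ℕ) (v : ℕ) :
    ∀ n, vm (l.map fun x => xorSel m (fun i => T i x) n) v = xorSel m (fun i => vm (l.map (T i)) v) n
  | 0 => vm_map_zero l v
  | n + 1 => by
    simp only [xorSel]
    rw [vm_map_xor, vm_xorSel m l T v n]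
    cases m.testBit n
    · simp only [cond_false]; rw [vm_map_zero]
    · rfl

/-- the data -/
structure Cert where
  mx : List ℕ
  msc : List ℕ
  node : List ℕ
  ws : List (List (List ℕ))
  lf : List (List ℕ)
  pf : List (List ℕ)
  mask : List ℕ
  tot : ℕ
  par : List (List ℕ)
  bas : List (List ℕ)
  fs : List (List (List ℕ))
  coords : List ℕ
  rels : List (List ℕ)
  lmap : List ℕ
  hs : List ℕ
  fr : List ℕ
  sb : List (List ℕ)

namespace Cert

variable (D : Cert)

/-- the two maps -/
def zt : List (List ℕ) := [D.mx, D.msc]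

/-- spanning vectors -/
def b (j : ℕ) : ℕ := (D.bas.getD (j / 8) []).getD (j % 8) 0

/-- their images under the unit maps -/
def F (k j : ℕ) : ℕ := ((D.fs.getD k []).getD (j / 8) []).getD (j % 8) 0

/-- the deviations of the fixing words -/
noncomputable def img (i v : ℕ) : ℕ :=
  pack ((D.ws.getD i []).map fun w => actL D.zt w v ^^^ v)


/-- one seed -/
noncomputable def seedOK (i : ℕ) : Bool :=
  addOK (D.lf.getD i []) && addOK (D.pf.getD i []) &&
  ((D.ws.getD i []).all fun w => w.all fun c => c.blt 2) &&
  (D.node.getD i 0).blt 112 && (D.b (D.node.getD i 0)).blt (2 ^ 112) &&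
  ((D.ws.getD i []).all fun w => Nat.beq (actL D.zt w (D.b (D.node.getD i 0))) (D.b (D.node.getD i 0))) &&
  ((List.range D.node.length).all fun i' => Nat.beq i' i ||
    (List.range D.tot).all fun k => !((D.mask.getD i' 0).testBit k) || Nat.beq (D.F k (D.node.getD i 0)) 0) &&
  (List.range 112).all fun a =>
    Nat.beq (vm (D.pf.getD i []) (2 ^ a) &&& D.mask.getD i 0) (vm (D.pf.getD i []) (2 ^ a)) &&
    Nat.beq (vm (D.lf.getD i []) (D.img i (2 ^ a)) ^^^
      xorSel (vm (D.pf.getD i []) (2 ^ a)) (fun k => D.F k (D.node.getD i 0)) D.tot) (2 ^ a)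

/-- one spanning vector -/
noncomputable def treeOK (j : ℕ) : Bool :=
  (D.b j).blt (2 ^ 112) &&
  bif Nat.beq ((D.par.getD j []).getD 0 0) 2 then
    ((D.par.getD j []).getD 1 0).blt D.node.length &&
      Nat.beq (D.node.getD ((D.par.getD j []).getD 1 0) 0) j
  else
    ((D.par.getD j []).getD 0 0).blt 2 && ((D.par.getD j []).getD 1 0).blt j &&
    Nat.beq (vm (D.zt.getD ((D.par.getD j []).getD 0 0) []) (D.b ((D.par.getD j []).getD 1 0))) (D.b j) &&
    (List.range D.tot).all fun k => Nat.beq (D.F k j)
      (vm (D.zt.getD ((D.par.getD j []).getD 0 0) []) (D.F k ((D.par.getD j []).getD 1 0)))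

/-- one relation -/
noncomputable def relOK (r : List ℕ) : Bool :=
  (r.getD 0 0).blt 2 && (r.getD 1 0).blt 112 &&
    Nat.beq (vm (D.zt.getD (r.getD 0 0) []) (D.b (r.getD 1 0))) (xorSel (r.getD 2 0) D.b 112)

/-- the deviation of a unit map on the relations -/
noncomputable def Z (k : ℕ) : ℕ :=
  pack (D.rels.map fun r =>
    vm (D.zt.getD (r.getD 0 0) []) (D.F k (r.getD 1 0)) ^^^ xorSel (r.getD 2 0) (D.F k) 112)

/-- elimination -/
noncomputable def elimOK (k : ℕ) : Bool :=
  Nat.beq (vm D.lmap (D.Z k) ^^^ 2 ^ k) (xorSel (D.fr.getD k 0) (fun i => D.hs.getD i 0) D.sb.length) &&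
    (D.fr.getD k 0).blt (2 ^ D.sb.length)

/-- one basic solution -/
noncomputable def solOK (i : ℕ) : Bool :=
  addOK (D.sb.getD i []) && Nat.beq (D.sb.getD i []).length 28 &&
    (List.range 112).all fun j =>
      Nat.beq (vm (D.sb.getD i []) (D.b j)) (xorSel (D.hs.getD i 0) (fun k => D.F k j) D.tot)

/-- spanning -/
noncomputable def spanOK : Bool :=
  (List.range 112).all fun a => Nat.beq (xorSel (D.coords.getD a 0) D.b 112) (2 ^ a)

/-- the whole certificate -/
noncomputable def ok : Bool :=
  addOK D.mx && addOK D.msc && addOK D.lmap && D.spanOK &&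
  (List.range D.node.length).all D.seedOK && (List.range 112).all D.treeOK &&
  D.rels.all D.relOK && (List.range D.tot).all D.elimOK &&
  (List.range D.sb.length).all D.solOK

/-- a combination of the basic solutions -/
def sol (m : ℕ) : List ℕ :=
  (List.range 28).map fun g => xorSel m (fun i => (D.sb.getD i []).getD g 0) D.sb.length

end Cert

theorem map_range_getD {l : List ℕ} {n : ℕ} (h : l.length = n) :
    (List.range n).map (fun g => l.getD g 0) = l := by
  subst h
  refine List.ext_getElem (by simp) fun i h1 h2 => ?_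
  simp [List.getElem_map, List.getElem_range, List.getElem?_eq_getElem h2]

theorem and_xor (a b c : ℕ) : (a ^^^ b) &&& c = (a &&& c) ^^^ (b &&& c) := by
  refine Nat.eq_of_testBit_eq fun i => ?_
  simp only [Nat.testBit_and, Nat.testBit_xor]
  cases a.testBit i <;> cases b.testBit i <;> cases c.testBit i <;> rfl

/-- an additive map commuting with both maps is one of the combinations -/
theorem Cert.exists_sol (D : Cert) (hD : D.ok = true) (R : ℕ → ℕ) (hR : ∀ v, R v < 2 ^ 112)
    (hadd : ∀ a b, a < 2 ^ 112 → b < 2 ^ 112 → R (a ^^^ b) = R a ^^^ R b)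
    (hx : ∀ v < 2 ^ 112, R (vm D.mx v) = vm D.mx (R v))
    (hsc : ∀ v < 2 ^ 112, R (vm D.msc v) = vm D.msc (R v)) :
    ∃ m < 2 ^ D.sb.length, ∀ v < 2 ^ 112, R v = vm (D.sol m) v := by
  simp only [Cert.ok, Bool.and_eq_true, List.all_eq_true] at hD
  obtain ⟨⟨⟨⟨⟨⟨⟨⟨hmx, hmsc⟩, hL⟩, hspan⟩, hseed⟩, htree⟩, hrel⟩, helim⟩, hsol⟩ := hD
  have hR0 : R 0 = 0 := by
    have := hadd 0 0 (by norm_num) (by norm_num)
    simp only [Nat.xor_self] at this
    exact this
  have hcom : ∀ g < 2, ∀ v < 2 ^ 112, R (vm (D.zt.getD g []) v) = vm (D.zt.getD g []) (R v) := by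
    intro g hg
    interval_cases g
    exacts [hx, hsc]
  have hzadd : ∀ g < 2, addOK (D.zt.getD g []) = true := by
    intro g hg
    interval_cases g
    exacts [hmx, hmsc]
  have hb : ∀ j < 112, D.b j < 2 ^ 112 := by
    intro j hj
    have h := htree j (List.mem_range.2 hj)
    simp only [Cert.treeOK, Bool.and_eq_true, Nat.blt, Nat.ble_eq] at h
    exact h.1
  have hsum_lt : ∀ c f n, (∀ k < n, f k < 2 ^ 112) → xorSel c f n < 2 ^ 112 := by
    intro c f n
    induction n with
    | zero => intro _; norm_num [xorSel]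
    | succ n ih =>
      intro h
      rw [xorSel]
      refine Nat.xor_lt_two_pow (ih fun k hk => h k (Nat.lt_succ_of_lt hk)) ?_
      cases c.testBit n
      · norm_num
      · exact h n (Nat.lt_succ_self n)
  have hRsum : ∀ c f n, (∀ k < n, f k < 2 ^ 112) →
      R (xorSel c f n) = xorSel c (fun k => R (f k)) n := by
    intro c f n
    induction n with
    | zero => intro _; exact hR0
    | succ n ih =>
      intro h
      have h' : ∀ k < n, f k < 2 ^ 112 := fun k hk => h k (Nat.lt_succ_of_lt hk)
      rw [xorSel, xorSel]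
      cases c.testBit n
      · rw [cond_false, cond_false, Nat.xor_zero, Nat.xor_zero, ih h']
      · rw [cond_true, cond_true, hadd _ _ (hsum_lt c f n h') (h n (Nat.lt_succ_self n)), ih h']
  -- the coefficients
  let ci : ℕ → ℕ := fun i => vm (D.pf.getD i []) (R (D.b (D.node.getD i 0)))
  let cN : ℕ → ℕ := Nat.rec 0 fun i acc => acc ^^^ ci i
  let c := cN D.node.length
  have hseedR : ∀ i < D.node.length,
      R (D.b (D.node.getD i 0)) = xorSel c (fun k => D.F k (D.node.getD i 0)) D.tot := by
    intro i hi
    have h := hseed i (List.mem_range.2 hi)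
    simp only [Cert.seedOK, Bool.and_eq_true, List.all_eq_true, Nat.blt, Nat.ble_eq,
      Nat.beq_eq] at h
    obtain ⟨⟨⟨⟨⟨⟨⟨hlf, hpf⟩, hwl⟩, hnode⟩, hnb⟩, hfixed⟩, hothers⟩, hbasis⟩ := h
    set s := D.b (D.node.getD i 0)
    have hw2 : ∀ w ∈ D.ws.getD i [], ∀ a b, actL D.zt w (a ^^^ b) =
        actL D.zt w a ^^^ actL D.zt w b := by
      intro w hw
      have hlet := hwl w hw
      clear hw
      induction w with
      | nil => intros; rfl
      | cons g w ih =>
        intro a b
        simp only [actL]
        rw [ih (fun x hx => hlet x (List.mem_cons_of_mem _ hx)),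
          vm_xor _ (hzadd g (hlet g List.mem_cons_self))]
    have himg : ∀ a b, D.img i (a ^^^ b) = D.img i a ^^^ D.img i b := by
      intro a b
      unfold Cert.img
      rw [← pack_xor]
      refine congrArg pack (List.map_congr_left fun w hw => ?_)
      rw [hw2 w hw]
      simp [Nat.xor_assoc, Nat.xor_comm, Nat.xor_left_comm]
    have hmaskeq : ∀ v < 2 ^ 112, vm (D.pf.getD i []) v &&& D.mask.getD i 0 = vm (D.pf.getD i []) v :=
      fun v hv => eq_of_basis (f := fun v => vm (D.pf.getD i []) v &&& D.mask.getD i 0)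
        (fun a b _ _ => by rw [vm_xor _ hpf, and_xor]) (fun a b _ _ => vm_xor _ hpf a b)
        (fun a ha => (hbasis a (List.mem_range.2 ha)).1) hv
    have hdecomp : ∀ v < 2 ^ 112, vm (D.lf.getD i []) (D.img i v) ^^^
        xorSel (vm (D.pf.getD i []) v) (fun k => D.F k (D.node.getD i 0)) D.tot = v :=
      fun v hv => eq_of_basis
        (f := fun v => vm (D.lf.getD i []) (D.img i v) ^^^
          xorSel (vm (D.pf.getD i []) v) (fun k => D.F k (D.node.getD i 0)) D.tot) (g := fun v => v)
        (fun a b _ _ => by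
          rw [himg, vm_xor _ hlf, vm_xor _ hpf, xorSel_xor]
          simp [Nat.xor_assoc, Nat.xor_comm, Nat.xor_left_comm])
        (fun a b _ _ => rfl) (fun a ha => (hbasis a (List.mem_range.2 ha)).2) hv
    have hRact : ∀ w ∈ D.ws.getD i [], ∀ v < 2 ^ 112, R (actL D.zt w v) = actL D.zt w (R v) := by
      intro w hw
      have hlet := hwl w hw
      clear hw
      induction w with
      | nil => intros; rfl
      | cons g w ih =>
        intro v hv
        simp only [actL]
        rw [hcom g (hlet g List.mem_cons_self) _ (actL_lt _ w hv),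
          ih (fun x hx => hlet x (List.mem_cons_of_mem _ hx)) v hv]
    have hfix : D.img i (R s) = 0 := by
      unfold Cert.img
      rw [← pack_zero (D.ws.getD i [])]
      refine congrArg pack (List.map_congr_left fun w hw => ?_)
      rw [← hRact w hw s hnb, hfixed w hw, Nat.xor_self]
    have hci : R s = xorSel (ci i) (fun k => D.F k (D.node.getD i 0)) D.tot := by
      have h0 := hdecomp (R s) (hR s)
      rw [hfix] at h0
      have hz : vm (D.lf.getD i []) 0 = 0 := by
        have := vm_xor _ hlf 0 0
        simp only [Nat.xor_self] at this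
        exact this
      rw [hz, Nat.zero_xor] at h0
      exact h0.symm
    have hacc : ∀ n, n ≤ D.node.length → xorSel (cN n) (fun k => D.F k (D.node.getD i 0)) D.tot =
        if i < n then R s else 0 := by
      intro n
      induction n with
      | zero => intro _; rw [if_neg (Nat.not_lt_zero i)]; exact xorSel_zero_left _ _
      | succ n ih =>
        intro hn
        show xorSel (cN n ^^^ ci n) _ _ = _
        rw [xorSel_xor, ih (by omega)]
        by_cases hni : n = i
        · subst hni
          rw [if_neg (lt_irrefl n), if_pos (Nat.lt_succ_self n), Nat.zero_xor, ← hci]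
        · have hz : xorSel (ci n) (fun k => D.F k (D.node.getD i 0)) D.tot = 0 := by
            refine xorSel_eq_zero fun k hk hbit => ?_
            have hm : (D.mask.getD n 0).testBit k = true := by
              have hn' := hseed n (List.mem_range.2 (by omega))
              simp only [Cert.seedOK, Bool.and_eq_true, List.all_eq_true, Nat.blt, Nat.ble_eq,
                Nat.beq_eq] at hn'
              have e : ci n &&& D.mask.getD n 0 = ci n :=
                eq_of_basis (f := fun v => vm (D.pf.getD n []) v &&& D.mask.getD n 0)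
                  (fun a b _ _ => by rw [vm_xor _ hn'.1.1.1.1.1.1.2, and_xor])
                  (fun a b _ _ => vm_xor _ hn'.1.1.1.1.1.1.2 a b)
                  (fun a ha => (hn'.2 a (List.mem_range.2 ha)).1) (hR _)
              rw [← e, Nat.testBit_and, Bool.and_eq_true] at hbit
              exact hbit.2
            have h2 := hothers n (List.mem_range.2 (by omega))
            simp only [Bool.or_eq_true, List.all_eq_true, Bool.not_eq_true', Nat.beq_eq] at h2
            rcases h2 with h2 | h2
            · exact absurd h2 hni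
            · rcases h2 k (List.mem_range.2 hk) with h3 | h3
              · rw [hm] at h3; exact absurd h3 (by simp)
              · exact h3
          rw [hz, Nat.xor_zero]
          by_cases hin : i < n
          · rw [if_pos hin, if_pos (by omega)]
          · rw [if_neg hin, if_neg (by omega)]
    have h0 := hacc _ le_rfl
    rw [if_pos hi] at h0
    exact h0.symm
  have hall : ∀ j < 112, R (D.b j) = xorSel c (fun k => D.F k j) D.tot := by
    intro j
    induction j using Nat.strong_induction_on with
    | _ j ih =>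
      intro hj
      have h := htree j (List.mem_range.2 hj)
      simp only [Cert.treeOK, Bool.and_eq_true, Nat.blt, Nat.ble_eq] at h
      cases hcase : Nat.beq ((D.par.getD j []).getD 0 0) 2
      · rw [hcase, cond_false] at h
        simp only [Bool.and_eq_true, Nat.ble_eq, List.all_eq_true, Nat.beq_eq] at h
        obtain ⟨-, ⟨⟨hg, hp⟩, hbj⟩, hF⟩ := h
        set g := (D.par.getD j []).getD 0 0
        set p := (D.par.getD j []).getD 1 0
        rw [← hbj, hcom g hg _ (hb p (by omega)), ih p hp (by omega),
          map_xorSel (vm_xor _ (hzadd g hg))]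
        exact xorSel_congr fun k hk _ => (hF k (List.mem_range.2 hk)).symm
      · rw [hcase, cond_true] at h
        simp only [Bool.and_eq_true, Nat.ble_eq, Nat.beq_eq] at h
        obtain ⟨-, hi, hn⟩ := h
        rw [← hn]
        exact hseedR _ hi
  -- the relations
  have hZ : xorSel c D.Z D.tot = 0 := by
    unfold Cert.Z
    rw [← pack_xorSel c D.rels (fun k r =>
      vm (D.zt.getD (r.getD 0 0) []) (D.F k (r.getD 1 0)) ^^^ xorSel (r.getD 2 0) (D.F k) 112)]
    refine Eq.trans (congrArg pack (List.map_congr_left (g := fun _ => 0) fun r hr => ?_))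
      (pack_zero D.rels)
    have h := hrel r hr
    simp only [Cert.relOK, Bool.and_eq_true, Nat.blt, Nat.ble_eq, Nat.beq_eq] at h
    obtain ⟨⟨hg, hj⟩, heq⟩ := h
    rw [xorSel_fxor, ← map_xorSel (vm_xor _ (hzadd _ hg)), ← hall _ hj, ← hcom _ hg _ (hb _ hj),
      heq, hRsum _ _ _ hb, ← xorSel_swap (r.getD 2 0) c (fun j k => D.F k j) D.tot 112,
      xorSel_congr (g := fun j => xorSel c (fun k => D.F k j) D.tot) fun j hj _ => hall j hj,
      Nat.xor_self]
  -- the coefficients lie in the span
  let m := xorSel c (fun k => D.fr.getD k 0) D.tot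
  have hcoef : ∀ f : ℕ → ℕ, xorSel c f D.tot =
      xorSel m (fun i => xorSel (D.hs.getD i 0) f D.tot) D.sb.length := by
    intro f
    have h1 : xorSel c (fun k => 2 ^ k) D.tot =
        xorSel c (fun k => xorSel (D.fr.getD k 0) (fun i => D.hs.getD i 0) D.sb.length) D.tot := by
      have e : xorSel c (fun k => vm D.lmap (D.Z k) ^^^ 2 ^ k) D.tot =
          xorSel c (fun k => 2 ^ k) D.tot := by
        rw [xorSel_fxor, ← map_xorSel (vm_xor _ hL), hZ]
        have := vm_xor _ hL 0 0
        simp only [Nat.xor_self] at this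
        rw [this, Nat.zero_xor]
      rw [← e]
      refine xorSel_congr fun k hk _ => ?_
      have h := helim k (List.mem_range.2 hk)
      simp only [Cert.elimOK, Bool.and_eq_true, Nat.beq_eq] at h
      exact h.1
    rw [← xorSel_bits c f D.tot, h1,
      map_xorSel (φ := fun x => xorSel x f D.tot) (fun a b => xorSel_xor a b f D.tot)]
    rw [xorSel_congr (g := fun k => xorSel (D.fr.getD k 0)
      (fun i => xorSel (D.hs.getD i 0) f D.tot) D.sb.length) fun k _ _ =>
        map_xorSel (φ := fun x => xorSel x f D.tot) (fun a b => xorSel_xor a b f D.tot) _ _ _]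
    exact (map_xorSel (φ := fun x => xorSel x (fun i => xorSel (D.hs.getD i 0) f D.tot) D.sb.length)
      (fun a b => xorSel_xor a b _ _) c (fun k => D.fr.getD k 0) D.tot).symm
  have hm : m < 2 ^ D.sb.length := by
    have : ∀ n ≤ D.tot, xorSel c (fun k => D.fr.getD k 0) n < 2 ^ D.sb.length := by
      intro n
      induction n with
      | zero => intro _; exact Nat.two_pow_pos _
      | succ n ih =>
        intro hn
        rw [xorSel]
        refine Nat.xor_lt_two_pow (ih (by omega)) ?_
        cases c.testBit n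
        · exact Nat.two_pow_pos _
        · have h := helim n (List.mem_range.2 (by omega))
          simp only [Cert.elimOK, Bool.and_eq_true, Nat.blt, Nat.ble_eq] at h
          exact h.2
    exact this _ le_rfl
  have hsol' : ∀ v, vm (D.sol m) v = xorSel m (fun i => vm (D.sb.getD i []) v) D.sb.length := by
    intro v
    rw [Cert.sol, vm_xorSel m (List.range 28) (fun i g => (D.sb.getD i []).getD g 0) v]
    refine xorSel_congr fun i hi _ => ?_
    have h := hsol i (List.mem_range.2 hi)
    simp only [Cert.solOK, Bool.and_eq_true, Nat.beq_eq] at h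
    rw [map_range_getD h.1.2]
  have hsoladd : ∀ a b, vm (D.sol m) (a ^^^ b) = vm (D.sol m) a ^^^ vm (D.sol m) b := by
    intro a b
    rw [hsol', hsol', hsol', ← xorSel_fxor]
    refine xorSel_congr fun i hi _ => ?_
    have h := hsol i (List.mem_range.2 hi)
    simp only [Cert.solOK, Bool.and_eq_true] at h
    exact vm_xor _ h.1.1 a b
  refine ⟨m, hm, fun v hv => eq_of_basis hadd (fun a b _ _ => hsoladd a b) ?_ hv⟩
  intro a ha
  have h := hspan
  simp only [Cert.spanOK, List.all_eq_true, Nat.beq_eq] at h
  have hjb : ∀ j < 112, R (D.b j) = vm (D.sol m) (D.b j) := by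
    intro j hj
    rw [hall j hj, hcoef, hsol']
    refine xorSel_congr fun i hi _ => ?_
    have h := hsol i (List.mem_range.2 hi)
    simp only [Cert.solOK, Bool.and_eq_true, List.all_eq_true, Nat.beq_eq] at h
    exact (h.2 j (List.mem_range.2 hj)).symm
  rw [← h a (List.mem_range.2 ha), hRsum _ _ _ hb, map_xorSel hsoladd]
  exact xorSel_congr fun j hj _ => hjb j hj

end CfsgLib.J4Aut79
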