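import Cfsg.Agent.J4Aut79.EFacts
import Cfsg.Agent.J4Aut79.LinCert
import Cfsg.Agent.J4Aut79.TabC0
import Cfsg.Agent.J4Aut79.TabC1
import Cfsg.Agent.J4Aut79.TabP

/-!
Kernel checks used to show that an automorphism fixing the first two generators, up to the twist,
fixes the third one.
-/

set_option autoImplicit false
set_option maxRecDepth 100000

namespace CfsgLib.J4Aut79

open CfsgLib.J4Rep112

/-- a word in the first two generators centralised by the third -/
def scW : List ℕ := [2, 0, 2, 0, 3, 0, 3, 0, 2, 0, 2, 0, 2]

theorem t_sq_ok : sameL mats 6 [4, 4] [] = true := by decide +kernel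

theorem word10_one : sameL mats 6 (J4Rep112.words.getD 10 []) [] = true := by decide +kernel

theorem word11_one : sameL mats 6 (J4Rep112.words.getD 11 []) [] = true := by decide +kernel

theorem t_x_ok : sameL mats 6 [4, 0] [0, 4] = true := by decide +kernel

theorem t_sc_ok : sameL mats 6 (4 :: scW) (scW ++ [4]) = true := by decide +kernel

theorem mx0_ok : tabOK mse 17 (evWN 11 0 ++ [0]) Tab0.mx = true := by decide +kernel

theorem mx1_ok : tabOK mse 17 (evWN 11 1088 ++ [0]) Tab1.mx = true := by decide +kernel

theorem msc0_ok : tabOK [Tab0.mx, Tab0.mx, mats.getD 2 [], mats.getD 3 []] 4 scW Tab0.msc = true := by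
  decide +kernel

theorem msc1_ok : tabOK [Tab1.mx, Tab1.mx, mats.getD 2 [], mats.getD 3 []] 4 scW Tab1.msc = true := by
  decide +kernel

/-- the table at step `b` -/
def sq (b : ℕ) : List ℕ := TabP.ps.getD b []

/-- additivity of tables from the images of the four unit vectors -/
noncomputable def linOK (M : List ℕ) : Bool :=
  M.all fun T => (List.range 16).all fun a =>
    Nat.beq (entry T a) (xorSel a (fun k => entry T (2 ^ k)) 4)

theorem addOK_of_linOK {M : List ℕ} (h : linOK M = true) : addOK M = true := by
  simp only [linOK, List.all_eq_true, List.mem_range, Nat.beq_eq] at h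
  simp only [addOK, List.all_eq_true, List.mem_range, Nat.beq_eq]
  intro T hT a ha b hb
  rw [h T hT _ (Nat.xor_lt_two_pow (n := 4) ha hb), h T hT a ha, h T hT b hb, xorSel_xor]

/-- one squaring step -/
noncomputable def sqOK (b : ℕ) : Bool :=
  linOK (sq b) && (List.range 112).all fun i =>
    Nat.beq (vm (sq (b + 1)) (2 ^ i)) (vm (sq b) (vm (sq b) (2 ^ i)))

theorem sq_ok0 : ((List.range 3).all fun b => sqOK (0 + b)) = true := by decide +kernel

theorem sq_ok1 : ((List.range 3).all fun b => sqOK (3 + b)) = true := by decide +kernel

theorem sq_ok2 : ((List.range 3).all fun b => sqOK (6 + b)) = true := by decide +kernel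

theorem sq_ok3 : ((List.range 3).all fun b => sqOK (9 + b)) = true := by decide +kernel

theorem sq_ok4 : ((List.range 3).all fun b => sqOK (12 + b)) = true := by decide +kernel

theorem sq_ok5 : ((List.range 3).all fun b => sqOK (15 + b)) = true := by decide +kernel

theorem sq_ok6 : ((List.range 3).all fun b => sqOK (18 + b)) = true := by decide +kernel

theorem sq_ok7 : ((List.range 3).all fun b => sqOK (21 + b)) = true := by decide +kernel

theorem sq_ok8 : ((List.range 3).all fun b => sqOK (24 + b)) = true := by decide +kernel

theorem sq_ok9 : ((List.range 3).all fun b => sqOK (27 + b)) = true := by decide +kernel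

theorem sq_ok10 : ((List.range 3).all fun b => sqOK (30 + b)) = true := by decide +kernel

theorem sq_ok11 : ((List.range 3).all fun b => sqOK (33 + b)) = true := by decide +kernel

theorem sq_ok12 : ((List.range 3).all fun b => sqOK (36 + b)) = true := by decide +kernel

theorem sq_ok13 : ((List.range 3).all fun b => sqOK (39 + b)) = true := by decide +kernel

theorem sq_ok14 : ((List.range 3).all fun b => sqOK (42 + b)) = true := by decide +kernel

theorem sq_ok15 : ((List.range 3).all fun b => sqOK (45 + b)) = true := by decide +kernel

theorem sq_ok16 : ((List.range 3).all fun b => sqOK (48 + b)) = true := by decide +kernel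

theorem sq_ok17 : ((List.range 3).all fun b => sqOK (51 + b)) = true := by decide +kernel

theorem sq_ok18 : ((List.range 3).all fun b => sqOK (54 + b)) = true := by decide +kernel

theorem sq_ok19 : ((List.range 3).all fun b => sqOK (57 + b)) = true := by decide +kernel

theorem sq_ok20 : ((List.range 3).all fun b => sqOK (60 + b)) = true := by decide +kernel

theorem sq_ok21 : ((List.range 3).all fun b => sqOK (63 + b)) = true := by decide +kernel

theorem sqOK_all {b : ℕ} (hb : b < 66) : sqOK b = true := by
  have h : ((List.range 3).all fun r => sqOK (3 * (b / 3) + r)) = true := by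
    have : b / 3 < 22 := by omega
    interval_cases b / 3
    exacts [sq_ok0, sq_ok1, sq_ok2, sq_ok3, sq_ok4, sq_ok5, sq_ok6, sq_ok7, sq_ok8, sq_ok9, sq_ok10, sq_ok11, sq_ok12, sq_ok13, sq_ok14, sq_ok15, sq_ok16, sq_ok17, sq_ok18, sq_ok19, sq_ok20, sq_ok21]
  have h1 := List.all_eq_true.1 h (b % 3) (List.mem_range.2 (by omega))
  rwa [Nat.div_add_mod] at h1

theorem sq_last : linOK (sq 66) = true := by decide +kernel

/-- the action of the power with exponent `N % 2 ^ n` -/
noncomputable def powV (N : ℕ) : ℕ → ℕ → ℕ
  | 0, v => v
  | n + 1, v => bif N.testBit n then vm (sq n) (powV N n v) else powV N n v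

theorem powV_moves : Nat.beq (powV 86775571046077562880 67 1) 1 = false := by decide +kernel

end CfsgLib.J4Aut79
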