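import Cfsg.Agent.J4Aut79.Auto
import Cfsg.Agent.J4Aut79.FixFacts
import Cfsg.Agent.J4Aut79.Case0
import Cfsg.Agent.J4Aut79.Case1

/-!
An automorphism equal to the identity or to the twist on the first two generators fixes the third
one, so it is inner.
-/

set_option autoImplicit false
set_option maxRecDepth 100000

namespace CfsgLib.J4Aut79

open Cfsg CfsgLib.CosetEnum CfsgLib.J4Rep112

/-- the images of the letters -/
def gam (γ : MulAut G) (c : ℕ) : G := γ (gl c)

theorem map_gword (γ : MulAut G) : ∀ w : List ℕ, γ (gword gl w) = gword (gam γ) w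
  | [] => by rw [gword_nil, gword_nil, map_one]
  | c :: w => by
    rw [gword_cons, gword_cons, map_mul, map_gword γ w]
    rfl

theorem rv_eq_of_table {g : G} {M : List ℕ} (h : Rp g M) {v : ℕ} (hv : v < 2 ^ 112) :
    rv g v = vm M v := h v hv

theorem case1_small :
    ((List.range 128).all fun m => Nat.ble ((Tab1.wit.getD m []).getD 0 0) 2) = true := by
  decide +kernel

theorem base_ok : tabOK (mats ++ [cert0.sol 74]) 7 [2, 4, 2, 6, 0] (sq 0) = true := by
  decide +kernel

theorem addOK_sq {b : ℕ} (hb : b < 67) : addOK (sq b) = true := by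
  by_cases h : b < 66
  · have := sqOK_all h
    rw [sqOK, Bool.and_eq_true] at this
    exact addOK_of_linOK this.1
  · rw [show b = 66 by omega]
    exact addOK_of_linOK sq_last

theorem rp_sq {A : G} (h : Rp A (sq 0)) : ∀ b, b < 67 → Rp (A ^ 2 ^ b) (sq b)
  | 0, _ => by rw [pow_zero, pow_one]; exact h
  | b + 1, hb => by
    have ih := rp_sq h b (by omega)
    have hs := sqOK_all (b := b) (by omega)
    rw [sqOK, Bool.and_eq_true, List.all_eq_true] at hs
    intro v hv
    refine eq_of_basis (fun a c ha hc => rv_xor _ ha hc)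
      (fun a c _ _ => vm_xor _ (addOK_sq hb) a c) (fun i hi => ?_) hv
    have hp : 2 ^ i < 2 ^ 112 := Nat.pow_lt_pow_right (by norm_num) hi
    rw [Nat.eq_of_beq_eq_true (hs.2 i (List.mem_range.2 hi)),
      show A ^ 2 ^ (b + 1) = A ^ 2 ^ b * A ^ 2 ^ b by rw [pow_succ, pow_mul, pow_two],
      rv_mul _ _ hp, ih _ hp, ih _ (vm_lt _ _)]

theorem rv_powV {A : G} (h : Rp A (sq 0)) (N : ℕ) : ∀ n, n ≤ 67 → ∀ {v : ℕ}, v < 2 ^ 112 →
    rv (A ^ (N % 2 ^ n)) v = powV N n v
  | 0, _, v, hv => by rw [pow_zero, Nat.mod_one, pow_zero, rv_one hv]; rfl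
  | n + 1, hn, v, hv => by
    have ih := rv_powV h N n (by omega) hv
    rw [Nat.mod_pow_succ, powV]
    rcases Nat.mod_two_eq_zero_or_one (N / 2 ^ n) with e | e
    · rw [e, Nat.mul_zero, Nat.add_zero, Nat.testBit_eq_decide_div_mod_eq, e, ih]
      rfl
    · rw [e, Nat.mul_one, Nat.add_comm, pow_add, Nat.testBit_eq_decide_div_mod_eq, e,
        rv_mul _ _ hv, ih, rp_sq h n (by omega) _ (ih ▸ rv_lt _ _)]
      rfl

variable (hs : IsSimpleGroup G)
include hs

theorem word_one {t : ℕ} (ht : t ≤ 2) :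
    gword gl ((([[4, 4], J4Rep112.words.getD 10 [], J4Rep112.words.getD 11 []] :
      List (List ℕ))).getD t []) = 1 := by
  interval_cases t
  · exact eq_of_sameL hs gl mats 6 (fun c hc => rp_letter hc) t_sq_ok
  · exact eq_of_sameL hs gl mats 6 (fun c hc => rp_letter hc) word10_one
  · exact eq_of_sameL hs gl mats 6 (fun c hc => rp_letter hc) word11_one

theorem gt_inv : gt⁻¹ = gt := by
  have h := eq_of_sameL hs gl mats 6 (fun c hc => rp_letter hc) t_sq_ok
  rw [gword_cons, gword_cons, gword_nil, mul_one] at h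
  exact inv_eq_of_mul_eq_one_right h

theorem gt_comm_x : gt * gx = gx * gt := by
  have h := eq_of_sameL hs gl mats 6 (fun c hc => rp_letter hc) t_x_ok
  rw [gword_cons, gword_cons, gword_nil, mul_one, gword_cons, gword_cons, gword_nil, mul_one] at h
  exact h

theorem gt_comm_sc : gt * gword gl scW = gword gl scW * gt := by
  have h := eq_of_sameL hs gl mats 6 (fun c hc => rp_letter hc) t_sc_ok
  rw [gword_cons, J4M24.gword_append, gword_cons, gword_nil, mul_one] at h
  exact h

theorem exists_table (γ : MulAut G) (a : ℕ) (D : Cert) (hD : D.ok = true)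
    (hx : γ gx = ev a * gx) (hy : γ gy = gy)
    (hmx : tabOK mse 17 (evWN 11 a ++ [0]) D.mx = true)
    (hmsc : tabOK [D.mx, D.mx, mats.getD 2 [], mats.getD 3 []] 4 scW D.msc = true) :
    ∃ m < 2 ^ D.sb.length, Rp (γ gt) (D.sol m) ∧ ∀ c < 6,
      Rp (gam γ c) ([D.mx, D.mx, Tab.matY, Tab.matYi, D.sol m, D.sol m].getD c []) := by
  have hX : Rp (γ gx) D.mx := by
    have h := rp_of_tabOK eL mse 17 rp_eL hmx
    rwa [J4M24.gword_append, gword_evWN, gword_cons, gword_nil, mul_one,
      eL_lt (show 0 < 6 by norm_num), ← ev, show gl 0 = gx from rfl, ← hx] at h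
  have h4 : ∀ c < 4, Rp (gam γ c) ([D.mx, D.mx, mats.getD 2 [], mats.getD 3 []].getD c []) := by
    intro c hc
    interval_cases c
    · exact hX
    · exact hX
    · show Rp (γ gy) (mats.getD 2 [])
      rw [hy]
      exact rp_letter (c := 2) (by norm_num)
    · show Rp (γ gy⁻¹) (mats.getD 3 [])
      rw [map_inv, hy]
      exact rp_letter (c := 3) (by norm_num)
  have hS : Rp (γ (gword gl scW)) D.msc := by
    rw [map_gword]
    exact rp_of_tabOK (gam γ) _ 4 h4 hmsc
  have hcomm : ∀ (g : G) (M : List ℕ), Rp (γ g) M → gt * g = g * gt →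
      ∀ v < 2 ^ 112, rv (γ gt) (vm M v) = vm M (rv (γ gt) v) := by
    intro g M hM hg v hv
    rw [← hM v hv, ← rv_mul _ _ hv, ← map_mul, hg, map_mul, rv_mul _ _ hv, hM _ (rv_lt _ _)]
  obtain ⟨m, hm, hR⟩ := D.exists_sol hD (rv (γ gt)) (rv_lt _)
    (fun a b ha hb => rv_xor _ ha hb) (hcomm gx D.mx hX (gt_comm_x hs))
    (hcomm _ D.msc hS (gt_comm_sc hs))
  refine ⟨m, hm, hR, fun c hc => ?_⟩
  interval_cases c
  · exact h4 0 (by norm_num)
  · exact h4 1 (by norm_num)
  · exact h4 2 (by norm_num)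
  · exact h4 3 (by norm_num)
  · exact hR
  · exact hR

theorem no_witness (γ : MulAut G) (MS : List (List ℕ)) (hMS : ∀ c < 6, Rp (gam γ c) (MS.getD c []))
    {t i : ℕ} (ht : t ≤ 2)
    (hw : (((([[4, 4], J4Rep112.words.getD 10 [], J4Rep112.words.getD 11 []] :
      List (List ℕ))).getD t []).all fun c => c.blt 6) = true)
    (hi : i < 112) :
    actL MS ((([[4, 4], J4Rep112.words.getD 10 [], J4Rep112.words.getD 11 []] :
      List (List ℕ))).getD t []) (2 ^ i) = 2 ^ i := by
  have hp : 2 ^ i < 2 ^ 112 := Nat.pow_lt_pow_right (by norm_num) hi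
  rw [← rv_gword (gam γ) MS 6 hMS _ hw hp, ← map_gword, word_one hs ht, map_one, rv_one hp]

theorem mem_inn_case0 (hcard : Nat.card G = 86775571046077562880) (γ : MulAut G)
    (hx : γ gx = gx) (hy : γ gy = gy) : γ ∈ Cfsg.Inn G := by
  have hx' : γ gx = ev 0 * gx := hx.trans (one_mul gx).symm
  obtain ⟨m, hm, hR, h6⟩ := exists_table hs γ 0 cert0 cert0_ok hx' hy mx0_ok msc0_ok
  have h := wit0 hm
  rw [witOK0] at h
  rcases hb : Nat.ble ((Tab0.wit.getD m []).getD 0 0) 2 with _ | _
  · rw [hb, cond_false] at h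
    rcases hb3 : Nat.beq ((Tab0.wit.getD m []).getD 0 0) 3 with _ | _
    · -- the excluded combination
      rw [hb3, cond_false, Nat.beq_eq] at h
      subst h
      exfalso
      let e7 : ℕ → G := fun c => if c < 6 then gl c else γ gt
      have he7 : ∀ c < 7, Rp (e7 c) ((mats ++ [cert0.sol 74]).getD c []) := by
        intro c hc
        have hl : mats.length = 6 := rfl
        by_cases hc6 : c < 6
        · rw [show e7 c = gl c from if_pos hc6, List.getD_append _ _ _ _ (hl ▸ hc6)]
          exact rp_letter hc6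
        · rw [show e7 c = γ gt from if_neg hc6, List.getD_append_right _ _ _ _ (by omega),
            show c - mats.length = 0 by omega]
          exact hR
      have hA := rp_of_tabOK e7 _ 7 he7 base_ok
      haveI := finite_G hs
      have h1 := rv_powV hA (Nat.card G) 67 le_rfl (v := 1) (by norm_num)
      rw [hcard, Nat.mod_eq_of_lt (by norm_num), ← hcard, pow_card_eq_one',
        rv_one (by norm_num)] at h1
      have h2 := powV_moves
      rw [← hcard, ← h1] at h2
      exact absurd h2 (by simp [Nat.beq_refl])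
    · -- the identity
      rw [hb3, cond_true, List.all_eq_true] at h
      have ht : γ gt = gt := by
        refine eq_of_rv hs fun i hi => ?_
        have hp : 2 ^ i < 2 ^ 112 := Nat.pow_lt_pow_right (by norm_num) hi
        rw [hR _ hp, Nat.eq_of_beq_eq_true (h i (List.mem_range.2 hi))]
        exact (rp_letter (c := 4) (by norm_num) _ hp).symm
      rw [ext_of_gens hs (φ := γ) (ψ := 1) hx hy ht]
      exact one_mem _
  · rw [hb, cond_true, Bool.and_eq_true, Bool.and_eq_true, Bool.not_eq_true'] at h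
    obtain ⟨⟨h1, h2⟩, h3⟩ := h
    rw [Nat.blt, Nat.ble_eq] at h2
    have hn := no_witness hs γ _ h6 (Nat.le_of_ble_eq_true hb) h1 h2
    rw [show cert0.mx = Tab0.mx from rfl] at hn
    rw [hn, Nat.beq_refl] at h3
    exact absurd h3 Bool.noConfusion

theorem mem_inn_case1 (γ : MulAut G) (hx : γ gx = ev 1088 * gx) (hy : γ gy = gy) :
    γ ∈ Cfsg.Inn G := by
  obtain ⟨m, hm, -, h6⟩ := exists_table hs γ 1088 cert1 cert1_ok hx hy mx1_ok msc1_ok
  exfalso
  have h := wit1 hm
  have hm' : m < 128 := by rw [sb_length1] at hm; simpa using hm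
  have hb := List.all_eq_true.1 case1_small m (List.mem_range.2 hm')
  rw [witOK1, hb, cond_true, Bool.and_eq_true, Bool.and_eq_true, Bool.not_eq_true'] at h
  obtain ⟨⟨h1, h2⟩, h3⟩ := h
  rw [Nat.blt, Nat.ble_eq] at h2
  have hn := no_witness hs γ _ h6 (Nat.le_of_ble_eq_true hb) h1 h2
  rw [show cert1.mx = Tab1.mx from rfl] at hn
  rw [hn, Nat.beq_refl] at h3
  exact Bool.noConfusion h3

/-- every automorphism is inner, once the normaliser of the elementary abelian subgroup is known -/
theorem mem_inn_of_normaliser (hcard : Nat.card G = 86775571046077562880)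
    (hNE : ∀ g : G, (∀ e ∈ E, g * e * g⁻¹ ∈ E) → g ∈ MM hs) (α : MulAut G) :
    α ∈ Cfsg.Inn G := by
  refine mem_inn_of_normalised hs hcard hNE (fun γ a ha hx hy => ?_) α
  rcases ha with rfl | rfl
  · exact mem_inn_case0 hs hcard γ (hx.trans (one_mul gx)) hy
  · exact mem_inn_case1 hs γ hx hy

end CfsgLib.J4Aut79
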