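import Cfsg.Agent.J4Aut79.ESub
import Cfsg.Agent.J4Aut79.TabS

/-!
The linear action on the elementary abelian subgroup, injectivity of its parametrisation, and the
subgroup `E K`.
-/

set_option autoImplicit false
set_option maxRecDepth 100000

namespace CfsgLib.J4Aut79

open Cfsg CfsgLib.CosetEnum CfsgLib.J4Rep112

/-- a linear map from the images of the basis -/
def linN (L : List ℕ) : ℕ → ℕ → ℕ
  | 0, _ => 0
  | n + 1, v => linN L n v ^^^ (bif v.testBit n then L.getD n 0 else 0)

/-- a linear map on combinations -/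
def lin (L : List ℕ) (v : ℕ) : ℕ := linN L 11 v

theorem linN_xor (L : List ℕ) : ∀ n a b, linN L n (a ^^^ b) = linN L n a ^^^ linN L n b
  | 0, _, _ => by simp [linN]
  | n + 1, a, b => by
    rw [linN, linN, linN, linN_xor L n a b, Nat.testBit_xor]
    cases a.testBit n <;> cases b.testBit n <;>
      simp [Nat.xor_assoc, Nat.xor_comm, Nat.xor_left_comm]

theorem lin_xor (L : List ℕ) (a b : ℕ) : lin L (a ^^^ b) = lin L a ^^^ lin L b := linN_xor L 11 a b

theorem lin_zero (L : List ℕ) : lin L 0 = 0 := by
  have h := lin_xor L 0 0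
  simp only [Nat.xor_self] at h
  exact h

theorem linN_lt (L : List ℕ) (h : L.all (fun a => a.blt 2048) = true) :
    ∀ n v, linN L n v < 2 ^ 11
  | 0, _ => by norm_num [linN]
  | n + 1, v => by
    rw [linN]
    refine Nat.xor_lt_two_pow (linN_lt L h n v) ?_
    cases v.testBit n
    · norm_num
    · show L.getD n 0 < 2 ^ 11
      by_cases hn : n < L.length
      · rw [List.getD_eq_getElem _ _ hn]
        have := List.all_eq_true.1 h _ (List.getElem_mem hn)
        rw [Nat.blt, Nat.ble_eq] at this
        norm_num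
        omega
      · rw [List.getD_eq_default _ _ (not_lt.1 hn)]
        norm_num

/-- a linear map of a word in the four letters -/
def linW : List ℕ → ℕ → ℕ
  | [], v => v
  | c :: w, v =>
    linW w (if c < 2 then lin matEX v else if c = 2 then lin matEY v else lin matEY (lin matEY v))

theorem linW_xor : ∀ w a b, linW w (a ^^^ b) = linW w a ^^^ linW w b
  | [], _, _ => rfl
  | c :: w, a, b => by
    simp only [linW]
    split
    · rw [lin_xor, linW_xor]
    · split
      · rw [lin_xor, linW_xor]
      · rw [lin_xor, lin_xor, linW_xor]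

variable (hs : IsSimpleGroup G)
include hs

theorem conj_evN {g : G} {L : List ℕ} (hg : ∀ k < 11, g⁻¹ * ek k * g = ev (L.getD k 0)) :
    ∀ n ≤ 11, ∀ v, g⁻¹ * evN n v * g = ev (linN L n v)
  | 0, _, _ => by
    show g⁻¹ * 1 * g = ev 0
    rw [mul_one, inv_mul_cancel]
    rfl
  | n + 1, hn, v => by
    rw [evN, linN, ← ev_mul hs, ← conj_evN hg n (by omega) v]
    cases v.testBit n
    · show g⁻¹ * (evN n v * 1) * g = g⁻¹ * evN n v * g * ev 0
      rw [show ev 0 = 1 from rfl, mul_one, mul_one]
    · show g⁻¹ * (evN n v * ek n) * g = g⁻¹ * evN n v * g * ev (L.getD n 0)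
      rw [← hg n (by omega)]
      group

theorem conj_gx (v : ℕ) : gx⁻¹ * ev v * gx = ev (lin matEX v) :=
  conj_evN hs (fun k hk => by rw [inv_eq_of_mul_eq_one_right gx_mul_self, conjX hs hk]) 11 le_rfl v

theorem conj_gy (v : ℕ) : gy⁻¹ * ev v * gy = ev (lin matEY v) :=
  conj_evN hs (fun _ hk => conjY hs hk) 11 le_rfl v

theorem conj_gword : ∀ w : List ℕ, (w.all fun c => c.blt 4) = true → ∀ v,
    (gword gl w)⁻¹ * ev v * gword gl w = ev (linW w v)
  | [], _, v => by simp [gword_nil, linW]
  | c :: w, h, v => by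
    rw [List.all_cons, Bool.and_eq_true, Nat.blt, Nat.ble_eq] at h
    rw [gword_cons, linW, ← conj_gword w h.2,
      show (gl c * gword gl w)⁻¹ * ev v * (gl c * gword gl w) =
        (gword gl w)⁻¹ * ((gl c)⁻¹ * ev v * gl c) * gword gl w by group]
    congr 2
    rcases (by omega : c < 2 ∨ c = 2 ∨ c = 3) with hc | rfl | rfl
    · rw [if_pos hc, show gl c = gx from if_pos hc, conj_gx hs]
    · exact conj_gy hs v
    · rw [if_neg (by norm_num), if_neg (by norm_num), ← conj_gy hs, ← conj_gy hs]
      have hg : gl 3 = gy⁻¹ := rfl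
      have hy : gy * gy = gy⁻¹ := eq_inv_of_mul_eq_one_left gy_cube
      have h3 : gy⁻¹ * gy⁻¹ = gy := by rw [← mul_inv_rev, hy, inv_inv]
      rw [hg, inv_inv]
      calc gy * ev v * gy⁻¹ = (gy⁻¹ * gy⁻¹) * ev v * (gy * gy) := by rw [h3, hy]
        _ = gy⁻¹ * (gy⁻¹ * ev v * gy) * gy := by group

omit hs

/-- the word of a generator of the Sylow subgroup -/
def sWord (j : ℕ) : List ℕ := Tab.sw.getD j []

/-- the images of the basis under the generators agree with the words -/
def msOK : Bool :=
  (List.range 10).all fun j => ((sWord j).all fun c => c.blt 4) &&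
    (Tab.ms.getD j []).all (fun a => a.blt 2048) &&
    (List.range 11).all fun k => Nat.beq ((Tab.ms.getD j []).getD k 0) (linW (sWord j) (2 ^ k))

theorem ms_ok : msOK = true := by decide +kernel

/-- one step towards a fixed combination -/
def stepDown (v : ℕ) : ℕ → ℕ
  | 0 => v
  | j + 1 =>
    bif Nat.beq (lin (Tab.ms.getD j []) v) v then stepDown v j else lin (Tab.ms.getD j []) v ^^^ v

/-- reaching the fixed combination -/
def down : ℕ → ℕ → ℕ
  | 0, v => v
  | f + 1, v => bif Nat.beq v 1000 then v else down f (stepDown v 10)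

theorem down_ok : ((List.range 2048).all fun v => Nat.beq v 0 || Nat.beq (down 16 v) 1000) = true := by
  decide +kernel

theorem fixed_word_ok : (((evWN 11 1000).all fun c => c.blt 17) &&
    !((List.range 112).all fun i => Nat.beq (actL mse (evWN 11 1000) (2 ^ i)) (2 ^ i))) = true := by
  decide +kernel

/-- the element of a Sylow generator -/
def sg (j : ℕ) : G := gword gl (sWord j)

theorem lin_eq_linW {L : List ℕ} {w : List ℕ}
    (h : ∀ k < 11, L.getD k 0 = linW w (2 ^ k)) {v : ℕ} (hv : v < 2048) : lin L v = linW w v := by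
  have key : ∀ n, n ≤ 11 → ∀ v < 2 ^ n, linN L n v = linW w v := by
    intro n
    induction n with
    | zero =>
      intro _ v hv
      have : v = 0 := by simpa using hv
      subst this
      have h0 := linW_xor w 0 0
      simp only [Nat.xor_self] at h0
      exact h0.symm
    | succ n ih =>
      intro hn v hv
      rw [linN]
      by_cases hb : v.testBit n
      · have hw : v ^^^ 2 ^ n < 2 ^ n := by
          refine Nat.lt_pow_two_of_testBit _ fun i hi => ?_
          rw [Nat.testBit_xor, Nat.testBit_two_pow]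
          rcases eq_or_lt_of_le hi with rfl | hi'
          · simp [hb]
          · rw [Nat.testBit_eq_false_of_lt (lt_of_lt_of_le hv
              (Nat.pow_le_pow_right (by norm_num) hi'))]
            simp [ne_of_lt hi']
        have e : v = v ^^^ 2 ^ n ^^^ 2 ^ n := by simp [Nat.xor_assoc]
        have e1 : linN L n v = linN L n (v ^^^ 2 ^ n) := by
          have hz : ∀ m, m ≤ n → linN L m (2 ^ n) = 0 := by
            intro m
            induction m with
            | zero => intro _; rfl
            | succ m ihm =>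
              intro hm
              rw [linN, ihm (by omega), Nat.testBit_two_pow]
              simp [show n ≠ m by omega]
          rw [linN_xor, hz n le_rfl, Nat.xor_zero]
        conv_rhs => rw [e, linW_xor]
        rw [e1, ih (by omega) _ hw, hb, ← h n (by omega)]
        rfl
      · have hw : v < 2 ^ n := by
          refine Nat.lt_pow_two_of_testBit _ fun i hi => ?_
          rcases eq_or_lt_of_le hi with rfl | hi'
          · simpa using hb
          · exact Nat.testBit_eq_false_of_lt (lt_of_lt_of_le hv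
              (Nat.pow_le_pow_right (by norm_num) hi'))
        rw [ih (by omega) v hw]
        simp [hb]
  exact key 11 le_rfl v (by norm_num; omega)

theorem lin_ms_lt {j : ℕ} (hj : j < 10) (v : ℕ) : lin (Tab.ms.getD j []) v < 2048 := by
  have h := List.all_eq_true.1 ms_ok j (List.mem_range.2 hj)
  rw [Bool.and_eq_true, Bool.and_eq_true] at h
  exact linN_lt _ h.1.2 11 v

include hs

theorem conj_sg {j : ℕ} (hj : j < 10) {v : ℕ} (hv : v < 2048) :
    (sg j)⁻¹ * ev v * sg j = ev (lin (Tab.ms.getD j []) v) := by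
  have h := List.all_eq_true.1 ms_ok j (List.mem_range.2 hj)
  rw [Bool.and_eq_true, Bool.and_eq_true] at h
  rw [sg, conj_gword hs _ h.1.1, lin_eq_linW (L := Tab.ms.getD j []) _ hv]
  exact fun k hk => Nat.eq_of_beq_eq_true (List.all_eq_true.1 h.2 k (List.mem_range.2 hk))

theorem ev_eq_one {v : ℕ} (hv : v < 2048) (h : ev v = 1) : v = 0 := by
  by_contra hv0
  have hstep : ∀ j ≤ 10, ∀ v, v < 2048 → ev v = 1 → ev (stepDown v j) = 1 ∧ stepDown v j < 2048 := by
    intro j
    induction j with
    | zero => intro _ v hv h; exact ⟨h, hv⟩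
    | succ j ih =>
      intro hj v hv h
      rw [stepDown]
      cases Nat.beq (lin (Tab.ms.getD j []) v) v
      · refine ⟨?_, ?_⟩
        · show ev (lin (Tab.ms.getD j []) v ^^^ v) = 1
          rw [← ev_mul hs, ← conj_sg hs (by omega) hv, h]
          group
        · exact Nat.xor_lt_two_pow (n := 11) (lin_ms_lt (by omega) v) hv
      · exact ih (by omega) v hv h
  have hdown : ∀ f v, v < 2048 → ev v = 1 → ev (down f v) = 1 := by
    intro f
    induction f with
    | zero => intro v _ h; exact h
    | succ f ih =>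
      intro v hv h
      rw [down]
      cases Nat.beq v 1000
      · exact ih _ (hstep 10 le_rfl v hv h).2 (hstep 10 le_rfl v hv h).1
      · exact h
  have h1 := List.all_eq_true.1 down_ok v (List.mem_range.2 hv)
  rw [Bool.or_eq_true] at h1
  rcases h1 with h1 | h1
  · exact hv0 (Nat.eq_of_beq_eq_true h1)
  · have h2 := hdown 16 v hv h
    rw [Nat.eq_of_beq_eq_true h1, ev, ← gword_evWN] at h2
    have h3 := fixed_word_ok
    rw [Bool.and_eq_true, Bool.not_eq_true'] at h3
    refine absurd (List.all_eq_true.2 fun i hi => ?_) (by rw [h3.2]; exact Bool.false_ne_true)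
    have hp : 2 ^ i < 2 ^ 112 := Nat.pow_lt_pow_right (by norm_num) (List.mem_range.1 hi)
    rw [← rv_gword eL mse 17 rp_eL _ h3.1 hp, h2, rv_one hp]
    exact Nat.beq_refl _

theorem ev_injective {v w : ℕ} (hv : v < 2048) (hw : w < 2048) (h : ev v = ev w) : v = w := by
  have h1 : ev (v ^^^ w) = 1 := by
    rw [← ev_mul hs, h, ev_mul hs, Nat.xor_self]
    rfl
  have h2 := ev_eq_one hs (Nat.xor_lt_two_pow (n := 11) hv hw) h1
  calc v = v ^^^ w ^^^ w := by simp [Nat.xor_assoc]
    _ = w := by rw [h2, Nat.zero_xor]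

theorem exists_ev {g : G} (hg : g ∈ E) : ∃ v < 2048, ev v = g := by
  induction hg using Subgroup.closure_induction with
  | mem x hx =>
    obtain ⟨k, hk, rfl⟩ := hx
    exact ⟨2 ^ k, Nat.pow_lt_pow_right (by norm_num) hk, ev_two_pow hk⟩
  | one => exact ⟨0, by norm_num, rfl⟩
  | mul a b _ _ ha hb =>
    obtain ⟨v, hv, rfl⟩ := ha
    obtain ⟨w, hw, rfl⟩ := hb
    exact ⟨v ^^^ w, Nat.xor_lt_two_pow (n := 11) hv hw, (ev_mul hs v w).symm⟩
  | inv a _ ha =>
    obtain ⟨v, hv, rfl⟩ := ha
    refine ⟨v, hv, eq_inv_of_mul_eq_one_left ?_⟩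
    rw [ev_mul hs, Nat.xor_self]
    rfl

theorem card_E : Nat.card E = 2048 := by
  have hb : Function.Bijective (fun v : Fin 2048 => (⟨ev v.1, ev_mem v.1⟩ : E)) :=
    ⟨fun a b h => Fin.ext (ev_injective hs a.2 b.2 (congrArg Subtype.val h)),
      fun g => by obtain ⟨v, hv, h⟩ := exists_ev hs g.2; exact ⟨⟨v, hv⟩, Subtype.ext h⟩⟩
  rw [← Nat.card_eq_of_bijective _ hb, Nat.card_fin]

end CfsgLib.J4Aut79
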