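import Cfsg.Agent.J4Aut79.Final
import Cfsg.Agent.J4Aut79.Cover
import Cfsg.Agent.J4Main61.Main

/-!
Every automorphism of the presented fourth Janko group is inner.
-/

set_option autoImplicit false

namespace CfsgLib.J4Aut79

open Cfsg

theorem mem_inn (α : MulAut G) : α ∈ Cfsg.Inn G :=
  mem_inn_of_normaliser J4Main61.isJ4.1 J4Main61.card_eq
    (fun g hg => mem_MM_of_normalises J4Main61.isJ4.1 (gt_inv J4Main61.isJ4.1) g hg) α

end CfsgLib.J4Aut79
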