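import Cfsg.Agent.J4Aut79.Normal

/-!
The subgroup `E K` of shape `2^11 : M24`, its projection onto `K`, and uniqueness of `E` among the
normal elementary abelian subgroups of order 2048 of its Sylow 2-subgroup.
-/

set_option autoImplicit false
set_option maxRecDepth 100000

namespace CfsgLib.J4Aut79

open Cfsg CfsgLib.CosetEnum

theorem incl_range_eq : J4M24.incl.range = K := by
  rw [MonoidHom.range_eq_map, ← PresentedGroup.closure_range_of, MonoidHom.map_closure, K,
    ← Set.range_comp]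
  congr 1
  ext a
  constructor
  · rintro ⟨b, rfl⟩
    cases b
    · exact Or.inl (PresentedGroup.toGroup.of _)
    · exact Or.inr (PresentedGroup.toGroup.of _)
  · rintro (rfl | rfl)
    · exact ⟨false, PresentedGroup.toGroup.of _⟩
    · exact ⟨true, PresentedGroup.toGroup.of _⟩

theorem card_le_of_exists {α β γ : Type*} (W : Finset β) (g : β → γ) (f : α → γ)
    (hf : Function.Injective f) (key : ∀ a, ∃ v ∈ W, g v = f a) : Nat.card α ≤ W.card := by
  have hinj : Function.Injective (fun a => (⟨(key a).choose, (key a).choose_spec.1⟩ : W)) := by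
    intro a b h
    apply hf
    rw [← (key a).choose_spec.2, ← (key b).choose_spec.2]
    exact congrArg (fun w : W => g w.1) h
  simpa using Nat.card_le_card_of_injective _ hinj

/-- `K` is `M24` -/
noncomputable def equivK : ↥M24 ≃* ↥K :=
  J4M24.equivM24.symm.trans ((MonoidHom.ofInjective J4M24.incl_injective).trans
    (MulEquiv.subgroupCongr incl_range_eq))

theorem card_K : Nat.card K = 244823040 := by
  rw [← Nat.card_congr equivK.toEquiv, CfsgLib.Mathieu.card_M24]

theorem sel_mem_K (n i : ℕ) : sel n i ∈ K := incl_range_eq ▸ ⟨_, rfl⟩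

theorem S24_le_K : S24 ≤ K := by
  rw [S24, Subgroup.closure_le]
  rintro _ ⟨j, hj, rfl⟩
  rw [sg_eq hj, ← incl_range_eq]
  exact ⟨_, rfl⟩

variable (hs : IsSimpleGroup G)
include hs

theorem finite_G : Finite G := by
  haveI : Finite CfsgLib.J4Rep112.Vec :=
    Finite.of_injective (fun v : CfsgLib.J4Rep112.Vec => (⟨v.1, v.2⟩ : Fin (2 ^ 112)))
      fun a b h => Subtype.ext (congrArg Fin.val h)
  exact Finite.of_injective _ (rep_injective hs)

theorem inf_eq_one {g : G} (hE : g ∈ E) (hK : g ∈ K) : g = 1 := by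
  haveI := finite_G hs
  haveI : IsSimpleGroup ↥M24 := CfsgLib.Mathieu.isSimpleGroup_M24
  haveI : Nontrivial ↥K := equivK.symm.toEquiv.nontrivial
  haveI : IsSimpleGroup ↥K :=
    IsSimpleGroup.isSimpleGroup_of_surjective equivK.toMonoidHom equivK.surjective
  haveI : (E.subgroupOf K).Normal := ⟨fun x hx k =>
    (Subgroup.mem_normalizer_iff.1 (K_le_normalizer hs k.2) x).1 hx⟩
  rcases Subgroup.Normal.eq_bot_or_eq_top (H := E.subgroupOf K) inferInstance with h | h
  · have : (⟨g, hK⟩ : ↥K) ∈ E.subgroupOf K := hE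
    rw [h, Subgroup.mem_bot] at this
    exact congrArg Subtype.val this
  · have hle : K ≤ E := Subgroup.subgroupOf_eq_top.1 h
    have := Subgroup.card_le_of_le hle
    rw [card_K, card_E hs] at this
    omega

theorem conj_E {k : G} (hk : k ∈ K) {e : G} (he : e ∈ E) : k * e * k⁻¹ ∈ E :=
  (Subgroup.mem_normalizer_iff.1 (K_le_normalizer hs hk) e).1 he

/-- the product `E H` for a subgroup `H` of `K` -/
def EH (H : Subgroup G) (hH : H ≤ K) : Subgroup G where
  carrier := {g | ∃ e ∈ E, ∃ k ∈ H, g = e * k}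
  one_mem' := ⟨1, one_mem _, 1, one_mem _, (one_mul 1).symm⟩
  mul_mem' := by
    rintro a b ⟨e, he, k, hk, rfl⟩ ⟨e', he', k', hk', rfl⟩
    exact ⟨e * (k * e' * k⁻¹), mul_mem he (conj_E hs (hH hk) he'), k * k', mul_mem hk hk', by group⟩
  inv_mem' := by
    rintro a ⟨e, he, k, hk, rfl⟩
    refine ⟨k⁻¹ * e⁻¹ * k, ?_, k⁻¹, inv_mem hk, by group⟩
    simpa using conj_E hs (inv_mem (hH hk)) (inv_mem he)

/-- the subgroup `E K` -/
def MM : Subgroup G := EH hs K le_rfl

/-- the Sylow 2-subgroup -/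
def SS : Subgroup G := EH hs S24 S24_le_K

theorem decomp_unique {e e' k k' : G} (he : e ∈ E) (he' : e' ∈ E) (hk : k ∈ K) (hk' : k' ∈ K)
    (h : e * k = e' * k') : e = e' ∧ k = k' := by
  have hee : e'⁻¹ * e = k' * k⁻¹ := by
    calc e'⁻¹ * e = e'⁻¹ * (e * k) * k⁻¹ := by group
      _ = k' * k⁻¹ := by rw [h]; group
  have h1 := inf_eq_one hs (mul_mem (inv_mem he') he) (hee ▸ mul_mem hk' (inv_mem hk))
  have hE' : e = e' := (inv_mul_eq_one.1 h1).symm
  exact ⟨hE', mul_left_cancel (hE' ▸ h)⟩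

/-- the projection onto `K` -/
noncomputable def pr : MM hs →* G where
  toFun g := g.2.choose_spec.2.choose
  map_one' := by
    have h := (1 : MM hs).2.choose_spec
    exact (decomp_unique hs h.1 (one_mem _) h.2.choose_spec.1 (one_mem _)
      (h.2.choose_spec.2.symm.trans (one_mul 1).symm)).2
  map_mul' a b := by
    have ha := a.2.choose_spec
    have hb := b.2.choose_spec
    have hab := (a * b).2.choose_spec
    refine (decomp_unique hs hab.1 (mul_mem ha.1 (conj_E hs ha.2.choose_spec.1 hb.1))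
      hab.2.choose_spec.1 (mul_mem ha.2.choose_spec.1 hb.2.choose_spec.1) ?_).2
    rw [← hab.2.choose_spec.2]
    conv_lhs => rw [Subgroup.coe_mul, ha.2.choose_spec.2, hb.2.choose_spec.2]
    group

theorem pr_eq (g : MM hs) {e k : G} (he : e ∈ E) (hk : k ∈ K) (h : (g : G) = e * k) : pr hs g = k :=
  (decomp_unique hs g.2.choose_spec.1 he g.2.choose_spec.2.choose_spec.1 hk
    (g.2.choose_spec.2.choose_spec.2.symm.trans h)).2

theorem pr_mem (g : MM hs) : pr hs g ∈ K := g.2.choose_spec.2.choose_spec.1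

theorem mul_pr_inv_mem (g : MM hs) : (g : G) * (pr hs g)⁻¹ ∈ E := by
  have h : (g : G) = g.2.choose * pr hs g := g.2.choose_spec.2.choose_spec.2
  rw [h, mul_inv_cancel_right]
  exact g.2.choose_spec.1

theorem E_le_MM : E ≤ MM hs := fun e he => ⟨e, he, 1, one_mem _, (mul_one e).symm⟩

theorem K_le_MM : K ≤ MM hs := fun k hk => ⟨1, one_mem _, k, hk, (one_mul k).symm⟩

theorem E_le_SS : E ≤ SS hs := fun e he => ⟨e, he, 1, one_mem _, (mul_one e).symm⟩

theorem SS_le_MM : SS hs ≤ MM hs := by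
  rintro g ⟨e, he, k, hk, rfl⟩
  exact ⟨e, he, k, S24_le_K hk, rfl⟩

theorem card_EH (H : Subgroup G) (hH : H ≤ K) : Nat.card (EH hs H hH) = 2048 * Nat.card H := by
  have hb : Function.Bijective (fun p : ↥E × ↥H =>
      (⟨p.1.1 * p.2.1, p.1.1, p.1.2, p.2.1, p.2.2, rfl⟩ : EH hs H hH)) := by
    constructor
    · rintro ⟨e, k⟩ ⟨e', k'⟩ h
      have := decomp_unique hs e.2 e'.2 (hH k.2) (hH k'.2) (congrArg Subtype.val h)
      exact Prod.ext (Subtype.ext this.1) (Subtype.ext this.2)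
    · rintro ⟨g, e, he, k, hk, rfl⟩
      exact ⟨(⟨e, he⟩, ⟨k, hk⟩), rfl⟩
  rw [← Nat.card_eq_of_bijective _ hb, Nat.card_prod, card_E hs]

theorem eq_E_of_normal (A : Subgroup G) (hA : A ≤ SS hs)
    (hnorm : ∀ s ∈ SS hs, ∀ a ∈ A, s * a * s⁻¹ ∈ A) (hsq : ∀ a ∈ A, a * a = 1)
    (hcard : Nat.card A = 2048) : A = E := by
  classical
  haveI := finite_G hs
  have hAM : A ≤ MM hs := hA.trans (SS_le_MM hs)
  let A' : Subgroup (MM hs) := A.subgroupOf (MM hs)
  let f : A' →* G := (pr hs).comp A'.subtype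
  have hB : f.range ≤ S24 := by
    rintro _ ⟨a, rfl⟩
    obtain ⟨e, he, k, hk, h⟩ := hA a.2
    rw [show f a = k from pr_eq hs a.1 he (S24_le_K hk) h]
    exact hk
  have hcA : Nat.card f.range * Nat.card f.ker = 2048 := by
    rw [← Subgroup.index_ker, mul_comm, Subgroup.card_mul_index,
      Nat.card_congr (Subgroup.subgroupOfEquivOfLe hAM).toEquiv, hcard]
  by_cases hbot : f.range = ⊥
  · have hle : A ≤ E := by
      intro a ha
      have h1 : pr hs ⟨a, hAM ha⟩ = 1 := by
        have hm : f ⟨⟨a, hAM ha⟩, ha⟩ ∈ f.range := ⟨_, rfl⟩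
        rw [hbot, Subgroup.mem_bot] at hm
        exact hm
      have h2 := mul_pr_inv_mem hs ⟨a, hAM ha⟩
      rw [h1, inv_one, mul_one] at h2
      exact h2
    exact Subgroup.eq_of_le_of_card_ge hle (by rw [hcard, card_E hs])
  · exfalso
    have hnormB : ∀ s ∈ S24, ∀ b ∈ f.range, s * b * s⁻¹ ∈ f.range := by
      rintro s hs' _ ⟨a, rfl⟩
      have hsS : s ∈ SS hs := ⟨1, one_mem _, s, hs', (one_mul s).symm⟩
      refine ⟨⟨⟨_, hAM (hnorm s hsS _ a.2)⟩, hnorm s hsS _ a.2⟩, ?_⟩
      obtain ⟨e, he, k, hk, h⟩ := hA a.2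
      have hfa : f a = k := pr_eq hs a.1 he (S24_le_K hk) h
      rw [hfa]
      refine pr_eq hs _ (conj_E hs (S24_le_K hs') he) (S24_le_K (mul_mem (mul_mem hs' hk)
        (inv_mem hs'))) ?_
      show s * (a.1.1 : G) * s⁻¹ = s * e * s⁻¹ * (s * k * s⁻¹)
      rw [show (a.1.1 : G) = e * k from h]
      group
    have hsqB : ∀ b ∈ f.range, b * b = 1 := by
      rintro _ ⟨a, rfl⟩
      rw [← map_mul, ← map_one f]
      congr 1
      exact Subtype.ext (Subtype.ext (hsq _ a.2))
    obtain ⟨W, hWdef⟩ : ∃ W : Finset ℕ, ∀ v, v ∈ W ↔ v < 2048 ∧ ev v ∈ A :=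
      ⟨(Finset.range 2048).filter fun v => ev v ∈ A, fun v => by simp⟩
    have hW : ∀ v ∈ W, v < 2048 ∧ ∀ b ∈ f.range, b⁻¹ * ev v * b = ev v := by
      intro v hv
      obtain ⟨hv1, hv2⟩ := (hWdef v).1 hv
      refine ⟨hv1, ?_⟩
      rintro _ ⟨a, rfl⟩
      obtain ⟨e, he, k, hk, h⟩ := hA a.2
      rw [show f a = k from pr_eq hs a.1 he (S24_le_K hk) h]
      have hek : e * k ∈ A := by
        have h2 : (a.1.1 : G) ∈ A := a.2
        rwa [show (a.1.1 : G) = e * k from h] at h2
      have hcomm : ev v * (e * k) = (e * k) * ev v := by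
        have hq := hsq _ (mul_mem hv2 (hek))
        calc ev v * (e * k) = (ev v * (e * k))⁻¹ := eq_inv_of_mul_eq_one_left hq
          _ = (e * k)⁻¹ * (ev v)⁻¹ := mul_inv_rev _ _
          _ = (e * k) * ev v := by
            rw [inv_eq_of_mul_eq_one_right (hsq _ (hek)),
              inv_eq_of_mul_eq_one_right (hsq _ hv2)]
      have he' := E_comm hs (ev_mem v) he
      calc k⁻¹ * ev v * k = k⁻¹ * e⁻¹ * (e * ev v) * k := by group
        _ = k⁻¹ * e⁻¹ * (ev v * (e * k)) := by rw [← he']; group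
        _ = ev v := by rw [hcomm]; group
    have hlt := normal_bound hs f.range hB hnormB hsqB hbot W hW
    have hker : Nat.card f.ker ≤ W.card := by
      have key : ∀ a : f.ker, ∃ v ∈ W, ev v = (a.1.1.1 : G) := by
        intro a
        have h1 : pr hs a.1.1 = 1 := a.2
        have h2 := mul_pr_inv_mem hs a.1.1
        rw [h1, inv_one, mul_one] at h2
        obtain ⟨v, hv, he⟩ := exists_ev hs h2
        have h3 : (a.1.1.1 : G) ∈ A := a.1.2
        refine ⟨v, (hWdef v).2 ⟨hv, ?_⟩, he⟩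
        rw [he]
        exact h3
      exact card_le_of_exists W ev (fun a : f.ker => (a.1.1.1 : G))
        (Subtype.val_injective.comp (Subtype.val_injective.comp Subtype.val_injective)) key
    have := Nat.mul_le_mul (le_refl (Nat.card f.range)) hker
    omega

end CfsgLib.J4Aut79
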