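import Cfsg.Agent.J4Aut79.Sylow
import Mathlib.GroupTheory.Nilpotent

/-!
An elementary abelian normal subgroup of the Sylow 2-subgroup of `K` times the number of
combinations it fixes is below 2048 unless it is trivial.
-/

set_option autoImplicit false
set_option maxRecDepth 100000

namespace CfsgLib.J4Aut79

open Cfsg
open scoped commutatorElement

theorem memN_iff {a : ℕ} {N : List ℕ} : memN a N = true ↔ a ∈ N := by
  simp [memN, Nat.beq_eq]

/-- In a finite nilpotent group a normal subgroup properly above another has an element outside it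
whose commutators lie in the smaller one. -/
theorem exists_central_mod {S : Type*} [Group S] [Finite S] [Group.IsNilpotent S]
    (B N : Subgroup S) [B.Normal] (hlt : ¬ B ≤ N) :
    ∃ b ∈ B, b ∉ N ∧ ∀ s : S, ⁅b, s⁆ ∈ N := by
  obtain ⟨m, hm⟩ := (inferInstance : Group.IsNilpotent S).nilpotent'
  have key : ∀ i, (∃ b ∈ B, b ∉ N ∧ b ∈ Subgroup.upperCentralSeries S i) →
      ∃ b ∈ B, b ∉ N ∧ ∀ s : S, ⁅b, s⁆ ∈ N := by
    intro i
    induction i with
    | zero =>
      rintro ⟨b, -, hbN, hb⟩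
      rw [Subgroup.upperCentralSeries_zero, Subgroup.mem_bot] at hb
      exact absurd (hb ▸ N.one_mem) hbN
    | succ i ih =>
      rintro ⟨b, hbB, hbN, hb⟩
      by_cases hex : ∃ c ∈ B, c ∉ N ∧ c ∈ Subgroup.upperCentralSeries S i
      · exact ih hex
      · refine ⟨b, hbB, hbN, fun s => ?_⟩
        by_contra hc
        refine hex ⟨⁅b, s⁆, ?_, hc, Subgroup.mem_upperCentralSeries_succ_iff.1 hb s⟩
        rw [commutatorElement_def, mul_assoc, mul_assoc, ← mul_assoc s]
        exact B.mul_mem hbB (Subgroup.Normal.conj_mem inferInstance _ (B.inv_mem hbB) s)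
  obtain ⟨b, hb, hbN⟩ := SetLike.not_le_iff_exists.1 hlt
  exact key m ⟨b, hb, hbN, hm ▸ Subgroup.mem_top b⟩

variable (hs : IsSimpleGroup G)
include hs

theorem sel_mulI_eq_iff {a b : ℕ} (ha : a < 1024) (hb : b < 1024) :
    Nat.beq a b = true ↔ sel 10 a = sel 10 b :=
  ⟨fun h => by rw [Nat.eq_of_beq_eq_true h], fun h => by rw [sel_injective hs ha hb h]; exact Nat.beq_refl _⟩

theorem normal_bound (B : Subgroup G) (hB : B ≤ S24)
    (hnorm : ∀ s ∈ S24, ∀ b ∈ B, s * b * s⁻¹ ∈ B) (hsq : ∀ b ∈ B, b * b = 1) (hne : B ≠ ⊥)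
    (W : Finset ℕ) (hW : ∀ v ∈ W, v < 2048 ∧ ∀ b ∈ B, b⁻¹ * ev v * b = ev v) :
    Nat.card B * W.card < 2048 := by
  classical
  haveI : Finite S24 := Nat.finite_of_card_ne_zero (by rw [card_S24 hs]; norm_num)
  haveI : Finite B := Finite.of_injective _ (Subgroup.inclusion_injective hB)
  haveI : Fact (Nat.Prime 2) := ⟨Nat.prime_two⟩
  haveI : Group.IsNilpotent S24 :=
    IsPGroup.isNilpotent (IsPGroup.of_card (p := 2) (n := 10) (by rw [card_S24 hs]; norm_num))
  have hcomm : ∀ a ∈ B, ∀ b ∈ B, a * b = b * a := by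
    intro a ha b hb
    have h := hsq _ (mul_mem ha hb)
    calc a * b = (a * b)⁻¹ := eq_inv_of_mul_eq_one_left h
      _ = b⁻¹ * a⁻¹ := mul_inv_rev a b
      _ = b * a := by rw [inv_eq_of_mul_eq_one_right (hsq b hb), inv_eq_of_mul_eq_one_right (hsq a ha)]
  let good : List ℕ → Prop := fun N => ∀ n ∈ N, n < 1024 ∧ sel 10 n ∈ B
  have hsub : ∀ N ∈ Tab.nl, subOK N = true := fun N hN => List.all_eq_true.1 sub_ok N hN
  have hlt : ∀ N ∈ Tab.nl, ∀ n ∈ N, n < 1024 := by
    intro N hN n hn
    have h := hsub N hN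
    rw [subOK, Bool.and_eq_true, Bool.and_eq_true] at h
    have h2 := List.all_eq_true.1 h.1.2 n hn
    rw [Bool.and_eq_true, Bool.and_eq_true, Nat.blt, Nat.ble_eq] at h2
    exact h2.1.1
  let C : Finset (List ℕ) := Tab.nl.toFinset.filter good
  have hC : C.Nonempty := by
    refine ⟨[0], Finset.mem_filter.2 ⟨List.mem_toFinset.2 ?_, ?_⟩⟩
    · obtain ⟨N, hN, he⟩ := List.any_eq_true.1 zero_mem_nl
      exact eq_of_beq he ▸ hN
    · intro n hn
      rw [List.mem_singleton] at hn
      subst hn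
      refine ⟨by norm_num, ?_⟩
      rw [sel, sel_zero, map_one]
      exact one_mem _
  obtain ⟨N, hNC, hmax⟩ := C.exists_max_image (fun N => N.toFinset.card) hC
  obtain ⟨hNl', hgood⟩ := Finset.mem_filter.1 hNC
  have hNl := List.mem_toFinset.1 hNl'
  -- every element of `B` is listed
  have hall : ∀ b ∈ B, ∃ n ∈ N, sel 10 n = b := by
    by_contra hcon
    simp only [not_forall, not_exists, not_and] at hcon
    obtain ⟨b₁, hb₁B, hb₁⟩ := hcon
    have hs' := hsub N hNl
    rw [subOK, Bool.and_eq_true, Bool.and_eq_true] at hs'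
    let Ns : Subgroup S24 :=
      { carrier := {x | ∃ n ∈ N, sel 10 n = (x : G)}
        one_mem' := ⟨0, memN_iff.1 hs'.1.1, by rw [sel, sel_zero, map_one]; rfl⟩
        mul_mem' := by
          rintro x y ⟨a, ha, hax⟩ ⟨c, hc, hcy⟩
          have h2 := List.all_eq_true.1 hs'.1.2 a ha
          rw [Bool.and_eq_true, Bool.and_eq_true] at h2
          refine ⟨mulI a c, memN_iff.1 (List.all_eq_true.1 h2.2 c hc), ?_⟩
          rw [← sel_mul (hlt N hNl c hc), hax, hcy]
          rfl
        inv_mem' := by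
          rintro x ⟨a, ha, hax⟩
          refine ⟨a, ha, ?_⟩
          rw [Subgroup.coe_inv, ← hax]
          exact (inv_eq_of_mul_eq_one_right (hsq _ (hgood a ha).2)).symm }
    let Bs : Subgroup S24 := B.subgroupOf S24
    haveI : Bs.Normal := ⟨fun x hx g => hnorm g g.2 x hx⟩
    have hnle : ¬ Bs ≤ Ns := by
      intro hle
      obtain ⟨n, hn, he⟩ := hle (x := ⟨b₁, hB hb₁B⟩) hb₁B
      exact hb₁ n hn he
    obtain ⟨⟨b, hbS⟩, hbB, hbN, hbc⟩ := exists_central_mod Bs Ns hnle
    obtain ⟨i, hi, hie⟩ := exists_sel hs hbS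
    have hbB' : sel 10 i ∈ B := hie ▸ hbB
    have hnot : i ∉ N := fun h => hbN ⟨i, h, hie⟩
    have h := List.all_eq_true.1 (List.all_eq_true.1 ext_ok N hNl) i (List.mem_range.2 hi)
    simp only [Bool.or_eq_true, Bool.not_eq_true'] at h
    rcases h with (((h | h) | h) | h) | h
    · exact hnot (memN_iff.1 h)
    · refine Bool.false_ne_true (h.symm.trans ?_)
      rw [sel_mulI_eq_iff hs (mulI_lt i hi) (by norm_num), ← sel_mul hi, hsq _ hbB', sel,
        sel_zero, map_one]
    · refine Bool.false_ne_true (h.symm.trans (List.all_eq_true.2 fun n hn => ?_))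
      rw [sel_mulI_eq_iff hs (mulI_lt i (hlt N hNl n hn)) (mulI_lt n hi), ← sel_mul hi,
        ← sel_mul (hlt N hNl n hn), hcomm _ hbB' _ (hgood n hn).2]
    · refine Bool.false_ne_true (h.symm.trans (List.all_eq_true.2 fun j hj => ?_))
      have hj10 := List.mem_range.1 hj
      have hp : 2 ^ j < 1024 := Nat.pow_lt_pow_right (by norm_num) hj10
      obtain ⟨n, hn, hne'⟩ := hbc (⟨sg j, Subgroup.subset_closure ⟨j, hj10, rfl⟩⟩⁻¹)
      refine List.any_eq_true.2 ⟨n, hn, ?_⟩
      rw [sel_mulI_eq_iff hs (mulI_lt i hp) (mulI_lt _ (mulI_lt i (hlt N hNl n hn))),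
        ← sel_mul hp, ← sel_mul (mulI_lt i (hlt N hNl n hn)), ← sel_mul (hlt N hNl n hn),
        sel_two_pow hj10, hne', hie]
      have hbb : b * b = 1 := hsq b hbB
      have hbi : b⁻¹ = b := inv_eq_of_mul_eq_one_right hbb
      show b * sg j = sg j * (b * (b * (sg j)⁻¹ * b⁻¹ * ((sg j)⁻¹)⁻¹))
      rw [inv_inv, hbi, ← mul_assoc b (b * (sg j)⁻¹ * b) (sg j), ← mul_assoc b (b * (sg j)⁻¹) b,
        ← mul_assoc b b, hbb, one_mul, mul_assoc, mul_inv_cancel_left]
    · obtain ⟨N', hN', h'⟩ := List.any_eq_true.1 h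
      simp only [Bool.and_eq_true, List.all_eq_true, Bool.or_eq_true, List.any_eq_true,
        memN_iff, Nat.beq_eq] at h'
      obtain ⟨⟨hiN', hNN'⟩, hgen⟩ := h'
      have hg' : good N' := by
        intro c hc
        refine ⟨hlt N' hN' c hc, ?_⟩
        rcases hgen c hc with hcN | ⟨n, hn, hcn⟩
        · exact (hgood c hcN).2
        · rw [hcn, ← sel_mul (hlt N hNl n hn)]
          exact mul_mem hbB' (hgood n hn).2
      have hlt' : N.toFinset.card < N'.toFinset.card := by
        refine Finset.card_lt_card ((Finset.ssubset_iff_of_subset ?_).2 ⟨i, ?_, ?_⟩)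
        · intro n hn
          exact List.mem_toFinset.2 (hNN' n (List.mem_toFinset.1 hn))
        · exact List.mem_toFinset.2 hiN'
        · exact fun hn => hnot (List.mem_toFinset.1 hn)
      exact absurd (hmax N' (Finset.mem_filter.2 ⟨List.mem_toFinset.2 hN', hg'⟩)) (not_le.2 hlt')
  obtain ⟨k, hk, hkN⟩ := List.getElem_of_mem hNl
  have hf := List.all_eq_true.1 fix_ok k (List.mem_range.2 hk)
  rw [fixOK, List.getD_eq_getElem _ _ hk, hkN, Bool.and_eq_true, Bool.or_eq_true] at hf
  have hcard : Nat.card B ≤ N.length := by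
    let f : B → Fin N.length := fun b =>
      ⟨N.idxOf (hall b b.2).choose, List.idxOf_lt_length_of_mem (hall b b.2).choose_spec.1⟩
    have hf' : Function.Injective f := by
      intro a b h
      apply Subtype.ext
      rw [← (hall a a.2).choose_spec.2, ← (hall b b.2).choose_spec.2]
      congr 1
      exact (List.idxOf_inj (hall a a.2).choose_spec.1).1 (congrArg Fin.val h)
    simpa using Nat.card_le_card_of_injective f hf'
  have hone : 1 < Nat.card B := by
    haveI : Nontrivial B := (Subgroup.nontrivial_iff_ne_bot B).2 hne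
    exact Finite.one_lt_card
  rcases hf.2 with h1 | h1
  · rw [Nat.beq_eq] at h1
    omega
  · rw [Nat.blt, Nat.ble_eq] at h1
    refine lt_of_le_of_lt (Nat.mul_le_mul hcard ?_) h1
    rw [← List.toFinset_card_of_nodup ((List.nodup_range).filter _)]
    refine Finset.card_le_card fun v hv => ?_
    obtain ⟨hv2, hvB⟩ := hW v hv
    rw [List.mem_toFinset, List.mem_filter, List.mem_range]
    refine ⟨hv2, List.all_eq_true.2 fun g hg => ?_⟩
    have hgN : g ∈ N := memN_iff.1 (List.all_eq_true.1 hf.1 g hg)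
    obtain ⟨hc, hclt⟩ := conj_sel hs 10 le_rfl g v hv2
    rw [Nat.beq_eq]
    exact ev_injective hs hclt hv2 (by rw [← hc]; exact hvB _ (hgood g hgN).2)

end CfsgLib.J4Aut79
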