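import Cfsg.Agent.J4Aut79.SFacts
import Cfsg.Agent.J4Aut79.Lin

/-! Operations on indices of the Sylow 2-subgroup, and checks on its normal elementary subgroups. -/

set_option autoImplicit false
set_option maxRecDepth 100000

namespace CfsgLib.J4Aut79

/-- product of the first `n` generators of `a` with `b` -/
def mulN : ℕ → ℕ → ℕ → ℕ
  | 0, _, b => b
  | n + 1, a, b => mulN n a (bif a.testBit n then ltI n b else b)

/-- product -/
def mulI (a b : ℕ) : ℕ := mulN 10 a b

/-- action on combinations -/
def linS : ℕ → ℕ → ℕ → ℕ
  | 0, _, v => v
  | n + 1, a, v => bif a.testBit n then lin (Tab.ms.getD n []) (linS n a v) else linS n a v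

/-- membership -/
def memN (a : ℕ) (N : List ℕ) : Bool := N.any fun n => Nat.beq n a

/-- a list is a normal elementary abelian subgroup -/
def subOK (N : List ℕ) : Bool :=
  memN 0 N && (N.all fun a => a.blt 1024 && Nat.beq (mulI a a) 0 &&
    (N.all fun b => memN (mulI a b) N)) &&
  (List.range 10).all fun j => N.all fun a => N.any fun a' => Nat.beq (mulI (2 ^ j) a) (mulI a' (2 ^ j))

/-- extensions by one element stay in the list -/
def extOK (N : List ℕ) : Bool := (List.range 1024).all fun b =>
  memN b N || !(Nat.beq (mulI b b) 0) || !(N.all fun n => Nat.beq (mulI b n) (mulI n b)) ||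
    !((List.range 10).all fun j =>
      N.any fun n => Nat.beq (mulI b (2 ^ j)) (mulI (2 ^ j) (mulI b n))) ||
    Tab.nl.any fun N' => memN b N' && (N.all fun n => memN n N') &&
      N'.all fun c => memN c N || N.any fun n => Nat.beq c (mulI b n)

/-- few combinations are fixed -/
def fixOK (k : ℕ) : Bool :=
  ((Tab.ng.getD k []).all fun g => memN g (Tab.nl.getD k [])) &&
  (Nat.beq (Tab.nl.getD k []).length 1 || ((Tab.nl.getD k []).length *
    ((List.range 2048).filter fun v =>
      (Tab.ng.getD k []).all fun g => Nat.beq (linS 10 g v) v).length).blt 2048)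

theorem zero_mem_nl : (Tab.nl.any fun N => N == [0]) = true := by decide +kernel

theorem sub_ok : (Tab.nl.all subOK) = true := by decide +kernel

theorem ext_ok : (Tab.nl.all extOK) = true := by decide +kernel

theorem fix_ok : ((List.range Tab.nl.length).all fixOK) = true := by decide +kernel

end CfsgLib.J4Aut79
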