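import Cfsg.Agent.J4Aut79.TabS
import Cfsg.Agent.J4M24.Main

/-! Kernel checks for the Sylow 2-subgroup of the Mathieu group on 24 points. -/

set_option autoImplicit false
set_option maxRecDepth 100000

namespace CfsgLib.J4Aut79

open CfsgLib.Mathieu

/-- unpack a permutation of 24 points -/
def unp (p : ℕ) : List ℕ := (List.range 24).map fun i => Nat.mod (Nat.shiftRight p (5 * i)) 32

/-- the table of an element -/
def stT (i : ℕ) : List ℕ := unp ((Tab.st.getD (i / 32) []).getD (i % 32) 0)

/-- index of a product with a generator on the left -/
def ltI (j i : ℕ) : ℕ := Nat.mod (Nat.shiftRight (Tab.lt.getD j 0) (10 * i)) 1024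

/-- the generators -/
def gOK : Bool := (List.range 10).all fun j =>
  ((Tab.sw.getD j []).all fun c => c.blt 4) &&
    (J4M24.wTab (Tab.sw.getD j []) == unp (Tab.gs.getD j 0))

theorem g_ok : gOK = true := by decide +kernel

/-- the elements are the ordered products -/
def stOK : Bool := (stT 0 == idTab) && (List.range 10).all fun j => (List.range (2 ^ j)).all fun i =>
  (stT (i + 2 ^ j) == compTab (stT i) (unp (Tab.gs.getD j 0))) &&
    !(stT i == unp (Tab.gs.getD j 0))

theorem st_ok : stOK = true := by decide +kernel

/-- left multiplication -/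
def ltRowOK (j : ℕ) : Bool := (List.range 1024).all fun i =>
  (ltI j i).blt 1024 && (stT (ltI j i) == compTab (unp (Tab.gs.getD j 0)) (stT i))

theorem lt_ok0 : ltRowOK 0 = true := by decide +kernel

theorem lt_ok1 : ltRowOK 1 = true := by decide +kernel

theorem lt_ok2 : ltRowOK 2 = true := by decide +kernel

theorem lt_ok3 : ltRowOK 3 = true := by decide +kernel

theorem lt_ok4 : ltRowOK 4 = true := by decide +kernel

theorem lt_ok5 : ltRowOK 5 = true := by decide +kernel

theorem lt_ok6 : ltRowOK 6 = true := by decide +kernel

theorem lt_ok7 : ltRowOK 7 = true := by decide +kernel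

theorem lt_ok8 : ltRowOK 8 = true := by decide +kernel

theorem lt_ok9 : ltRowOK 9 = true := by decide +kernel

/-- the first generators act on the first elements -/
def ltBoundOK : Bool := (List.range 10).all fun n => (List.range n).all fun j =>
  (List.range (2 ^ n)).all fun i => (ltI j i).blt (2 ^ n)

theorem lt_bound_ok : ltBoundOK = true := by decide +kernel

end CfsgLib.J4Aut79
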