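import Cfsg.Agent.J4Aut79.Ops
import Cfsg.Agent.J4M24.Iso

/-!
The Sylow 2-subgroup of `K` and the bound for its normal elementary abelian subgroups.
-/

set_option autoImplicit false
set_option maxRecDepth 100000

namespace CfsgLib.J4Aut79

open Cfsg CfsgLib.CosetEnum CfsgLib.Mathieu

/-- the generator in the seven-relator group -/
def sgP (j : ℕ) : J4M24.P := gword J4M24.gl (sWord j)

/-- ordered products in the seven-relator group -/
def selP : ℕ → ℕ → J4M24.P
  | 0, _ => 1
  | n + 1, i => selP n i * (bif i.testBit n then sgP n else 1)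

/-- ordered products -/
def sel (n i : ℕ) : G := J4M24.incl (selP n i)

theorem incl_gl {c : ℕ} (hc : c < 4) : J4M24.incl (J4M24.gl c) = gl c := by
  have hx : J4M24.incl J4M24.px = gx := PresentedGroup.toGroup.of _
  have hy : J4M24.incl J4M24.py = gy := PresentedGroup.toGroup.of _
  rw [J4M24.gl, J4M24.map_lets, hx, hy]
  interval_cases c
  · rfl
  · show gx⁻¹ = gx
    exact inv_eq_of_mul_eq_one_right gx_mul_self
  · rfl
  · rfl

theorem incl_gword : ∀ w : List ℕ, (w.all fun c => c.blt 4) = true →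
    J4M24.incl (gword J4M24.gl w) = gword gl w
  | [], _ => map_one _
  | c :: w, h => by
    rw [List.all_cons, Bool.and_eq_true, Nat.blt, Nat.ble_eq] at h
    rw [gword_cons, gword_cons, map_mul, incl_gl h.1, incl_gword w h.2]

theorem gens_ok {j : ℕ} (hj : j < 10) :
    ((sWord j).all fun c => c.blt 4) = true ∧
      toTab ((J4M24.phi (sgP j) : Equiv.Perm GolayPt)) = unp (Tab.gs.getD j 0) := by
  have h := List.all_eq_true.1 g_ok j (List.mem_range.2 hj)
  rw [Bool.and_eq_true] at h
  refine ⟨h.1, ?_⟩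
  rw [sgP, J4M24.phi_gword, J4M24.toTab_gword]
  · exact eq_of_beq h.2
  · intro c hc
    have := List.all_eq_true.1 h.1 c hc
    rwa [Nat.blt, Nat.ble_eq] at this

theorem sg_eq {j : ℕ} (hj : j < 10) : sg j = J4M24.incl (sgP j) :=
  (incl_gword _ (gens_ok hj).1).symm

theorem toTab_selP : ∀ n ≤ 10, ∀ i < 2 ^ n, toTab (J4M24.phi (selP n i) : Equiv.Perm GolayPt) = stT i
  | 0, _, i, hi => by
    have : i = 0 := by simpa using hi
    subst this
    rw [selP, map_one, Subgroup.coe_one, toTab_one]
    have h := st_ok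
    rw [stOK, Bool.and_eq_true] at h
    exact (eq_of_beq h.1).symm
  | n + 1, hn, i, hi => by
    have h := st_ok
    rw [stOK, Bool.and_eq_true] at h
    rw [selP]
    by_cases hb : i.testBit n
    · have hlow : i - 2 ^ n < 2 ^ n := by rw [pow_succ] at hi; omega
      have hge : 2 ^ n ≤ i := Nat.ge_two_pow_of_testBit hb
      have hsel : ∀ m ≤ n, selP m i = selP m (i - 2 ^ n) := by
        intro m
        induction m with
        | zero => intro _; rfl
        | succ m ih =>
          intro hm
          rw [selP, selP, ih (by omega)]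
          congr 2
          conv_lhs => rw [show i = 2 ^ n + (i - 2 ^ n) by omega]
          rw [Nat.testBit_two_pow_add_gt (show m < n by omega)]
      rw [hb, cond_true, map_mul, Subgroup.coe_mul, toTab_mul, (gens_ok (by omega)).2, hsel n le_rfl,
        toTab_selP n (by omega) _ hlow]
      have h2 := List.all_eq_true.1 (List.all_eq_true.1 h.2 n (List.mem_range.2 (by omega)))
        (i - 2 ^ n) (List.mem_range.2 hlow)
      rw [Bool.and_eq_true] at h2
      rw [show i - 2 ^ n + 2 ^ n = i by omega] at h2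
      exact (eq_of_beq h2.1).symm
    · have hlow : i < 2 ^ n := by
        refine Nat.lt_pow_two_of_testBit _ fun k hk => ?_
        rcases eq_or_lt_of_le hk with rfl | hk'
        · simpa using hb
        · exact Nat.testBit_eq_false_of_lt (lt_of_lt_of_le hi (Nat.pow_le_pow_right (by norm_num) hk'))
      rw [Bool.not_eq_true] at hb
      rw [hb, cond_false, mul_one]
      exact toTab_selP n (by omega) i hlow

theorem ltI_lt (j i : ℕ) : ltI j i < 1024 := Nat.mod_lt _ (by norm_num)

theorem selP_left {j : ℕ} (hj : j < 10) {i : ℕ} (hi : i < 1024) :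
    sgP j * selP 10 i = selP 10 (ltI j i) := by
  have h : ltRowOK j = true := by
    interval_cases j
    exacts [lt_ok0, lt_ok1, lt_ok2, lt_ok3, lt_ok4, lt_ok5, lt_ok6, lt_ok7, lt_ok8, lt_ok9]
  have h2 := List.all_eq_true.1 h i (List.mem_range.2 hi)
  rw [Bool.and_eq_true] at h2
  refine J4M24.phi_injective (Subtype.ext (J4M24.toTab_injective ?_))
  rw [map_mul, Subgroup.coe_mul, toTab_mul, (gens_ok hj).2, toTab_selP 10 le_rfl i hi,
    toTab_selP 10 le_rfl _ (ltI_lt j i)]
  exact (eq_of_beq h2.2).symm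

theorem sel_zero : ∀ n, selP n 0 = 1
  | 0 => rfl
  | n + 1 => by rw [selP, sel_zero n, Nat.zero_testBit, cond_false, mul_one]

theorem selP_mulN : ∀ n ≤ 10, ∀ a b, b < 1024 →
    selP 10 (mulN n a b) = selP n a * selP 10 b ∧ mulN n a b < 1024
  | 0, _, a, b, hb => ⟨(one_mul _).symm, hb⟩
  | n + 1, hn, a, b, hb => by
    rw [mulN, show selP (n + 1) a = selP n a * (bif a.testBit n then sgP n else 1) from rfl]
    cases a.testBit n
    · rw [cond_false, cond_false, mul_one]
      exact selP_mulN n (by omega) a b hb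
    · rw [cond_true, cond_true, mul_assoc, selP_left (by omega) hb]
      exact selP_mulN n (by omega) a _ (ltI_lt n b)

theorem sel_mul {a b : ℕ} (hb : b < 1024) : sel 10 a * sel 10 b = sel 10 (mulI a b) := by
  rw [sel, sel, sel, ← map_mul, mulI, (selP_mulN 10 le_rfl a b hb).1]

theorem mulI_lt (a : ℕ) {b : ℕ} (hb : b < 1024) : mulI a b < 1024 := (selP_mulN 10 le_rfl a b hb).2

theorem selP_two_pow {j : ℕ} : ∀ n, selP n (2 ^ j) = if j < n then sgP j else 1
  | 0 => rfl
  | n + 1 => by
    rw [selP, selP_two_pow n, Nat.testBit_two_pow]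
    rcases Nat.lt_trichotomy j n with h | rfl | h
    · simp [h, h.ne, Nat.lt_succ_of_lt h]
    · simp
    · simp [h.ne', show ¬ j < n by omega, show ¬ j < n + 1 by omega]

theorem sel_two_pow {j : ℕ} (hj : j < 10) : sel 10 (2 ^ j) = sg j := by
  rw [sel, selP_two_pow, if_pos hj, ← sg_eq hj]

theorem exists_selP_mul {n : ℕ} (hn : n ≤ 10) {a b : ℕ} (hb : b < 2 ^ n) :
    mulN n a b < 2 ^ n := by
  suffices h : ∀ m ≤ n, ∀ c, c < 2 ^ n → mulN m a c < 2 ^ n from h n le_rfl b hb
  intro m
  induction m with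
  | zero => intro _ c hc; exact hc
  | succ m ih =>
    intro hm c hc
    rw [mulN]
    cases a.testBit m
    · exact ih (by omega) c hc
    · refine ih (by omega) _ ?_
      by_cases hn10 : n = 10
      · rw [hn10]; exact ltI_lt m c
      · have h := List.all_eq_true.1 (List.all_eq_true.1 (List.all_eq_true.1 lt_bound_ok n
          (List.mem_range.2 (by omega))) m (List.mem_range.2 (by omega))) c (List.mem_range.2 hc)
        rwa [Nat.blt, Nat.ble_eq] at h

/-- the Sylow 2-subgroup of `K` -/
def S24 : Subgroup G := Subgroup.closure {g | ∃ j < 10, sg j = g}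

theorem sel_mem : ∀ n ≤ 10, ∀ i, sel n i ∈ S24
  | 0, _, i => by
    rw [sel, selP, map_one]
    exact one_mem _
  | n + 1, hn, i => by
    rw [sel, selP, map_mul]
    refine mul_mem (sel_mem n (by omega) i) ?_
    cases i.testBit n
    · rw [cond_false, map_one]; exact one_mem _
    · rw [cond_true, ← sg_eq (by omega)]
      exact Subgroup.subset_closure ⟨n, by omega, rfl⟩

variable (hs : IsSimpleGroup G)
include hs

theorem exists_sel {g : G} (hg : g ∈ S24) : ∃ i < 1024, sel 10 i = g := by
  haveI : Finite J4M24.P := Nat.finite_of_card_ne_zero J4M24.card_le.2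
  let T : Set J4M24.P := {a | ∃ i < 1024, selP 10 i = a}
  have hmul : ∀ a ∈ T, ∀ b ∈ T, a * b ∈ T := by
    rintro _ ⟨i, hi, rfl⟩ _ ⟨k, hk, rfl⟩
    exact ⟨mulI i k, mulI_lt i hk, (selP_mulN 10 le_rfl i k hk).1⟩
  have hone : (1 : J4M24.P) ∈ T := ⟨0, by norm_num, sel_zero 10⟩
  let Tm : Submonoid J4M24.P := ⟨⟨T, fun {a b} ha hb => hmul a ha b hb⟩, hone⟩
  have hinv : ∀ a ∈ T, a⁻¹ ∈ T := by
    intro a ha
    have hp : a⁻¹ = a ^ (orderOf a - 1) := by
      refine inv_eq_of_mul_eq_one_right ?_
      rw [← pow_succ', Nat.sub_add_cancel (orderOf_pos a), pow_orderOf_eq_one]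
    rw [hp]
    exact Tm.pow_mem ha _
  let Ts : Subgroup J4M24.P := { Tm with inv_mem' := fun {a} ha => hinv a ha }
  have hle : S24 ≤ Ts.map J4M24.incl := by
    rw [S24, Subgroup.closure_le]
    rintro _ ⟨j, hj, rfl⟩
    exact ⟨selP 10 (2 ^ j), ⟨2 ^ j, Nat.pow_lt_pow_right (by norm_num) hj, rfl⟩, sel_two_pow hj⟩
  obtain ⟨_, ⟨i, hi, rfl⟩, rfl⟩ := hle hg
  exact ⟨i, hi, rfl⟩

omit hs

theorem selP_injective : ∀ n ≤ 10, ∀ i < 2 ^ n, ∀ k < 2 ^ n, selP n i = selP n k → i = k
  | 0, _, i, hi, k, hk, _ => by simp only [pow_zero, Nat.lt_one_iff] at hi hk; omega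
  | n + 1, hn, i, hi, k, hk, h => by
    haveI : Finite J4M24.P := Nat.finite_of_card_ne_zero J4M24.card_le.2
    have hlow : ∀ {a}, a < 2 ^ (n + 1) → a.testBit n = false → a < 2 ^ n := by
      intro a ha hb
      refine Nat.lt_pow_two_of_testBit _ fun m hm => ?_
      rcases eq_or_lt_of_le hm with rfl | hm'
      · exact hb
      · exact Nat.testBit_eq_false_of_lt (lt_of_lt_of_le ha (Nat.pow_le_pow_right (by norm_num) hm'))
    have hhigh : ∀ {a}, a < 2 ^ (n + 1) → a.testBit n = true →
        a - 2 ^ n < 2 ^ n ∧ 2 ^ n ≤ a ∧ selP n a = selP n (a - 2 ^ n) := by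
      intro a ha hb
      have hge : 2 ^ n ≤ a := Nat.ge_two_pow_of_testBit hb
      refine ⟨by rw [pow_succ] at ha; omega, hge, ?_⟩
      have : ∀ m ≤ n, selP m a = selP m (a - 2 ^ n) := by
        intro m
        induction m with
        | zero => intro _; rfl
        | succ m ih =>
          intro hm
          rw [selP, selP, ih (by omega)]
          congr 2
          conv_lhs => rw [show a = 2 ^ n + (a - 2 ^ n) by omega]
          rw [Nat.testBit_two_pow_add_gt (show m < n by omega)]
      exact this n le_rfl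
    have hext : ∀ {a}, a < 2 ^ n → selP 10 a = selP n a := by
      intro a ha
      have : ∀ m, n ≤ m → selP m a = selP n a := by
        intro m hm
        induction m, hm using Nat.le_induction with
        | base => rfl
        | succ m hm ih =>
          rw [selP, Nat.testBit_eq_false_of_lt
            (lt_of_lt_of_le ha (Nat.pow_le_pow_right (by norm_num) hm)), cond_false, mul_one, ih]
      exact this 10 (by omega)
    have hout : ∀ a < 2 ^ n, ∀ b < 2 ^ n, selP n a * sgP n ≠ selP n b := by
      intro a ha b hb e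
      let T : Submonoid J4M24.P :=
        { carrier := {z | ∃ c < 2 ^ n, selP n c = z}
          one_mem' := ⟨0, Nat.two_pow_pos n, sel_zero n⟩
          mul_mem' := by
            rintro _ _ ⟨c, hc, rfl⟩ ⟨d, hd, rfl⟩
            have hd10 : d < 1024 := lt_of_lt_of_le hd
              ((Nat.pow_le_pow_right (by norm_num) (show n ≤ 10 by omega)).trans_eq (by norm_num))
            have hlt := exists_selP_mul (a := c) (show n ≤ 10 by omega) hd
            refine ⟨mulN n c d, hlt, ?_⟩
            rw [← hext hlt, (selP_mulN n (by omega) c d hd10).1, hext hd] }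
      have hs' : sgP n ∈ T := by
        have hp : (selP n a)⁻¹ = selP n a ^ (orderOf (selP n a) - 1) := by
          refine inv_eq_of_mul_eq_one_right ?_
          rw [← pow_succ', Nat.sub_add_cancel (orderOf_pos _), pow_orderOf_eq_one]
        rw [← inv_mul_cancel_left (selP n a) (sgP n), e, hp]
        exact T.mul_mem (T.pow_mem ⟨a, ha, rfl⟩ _) ⟨b, hb, rfl⟩
      obtain ⟨c, hc, hce⟩ := hs'
      have h2 := st_ok
      rw [stOK, Bool.and_eq_true] at h2
      have h3 := List.all_eq_true.1 (List.all_eq_true.1 h2.2 n (List.mem_range.2 (by omega)))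
        c (List.mem_range.2 hc)
      rw [Bool.and_eq_true, Bool.not_eq_true'] at h3
      rw [← toTab_selP n (by omega) c hc, hce, (gens_ok (show n < 10 by omega)).2] at h3
      simp at h3
    rw [selP, selP] at h
    cases hi' : i.testBit n <;> cases hk' : k.testBit n <;>
      simp only [hi', hk', cond_true, cond_false, mul_one] at h
    · exact selP_injective n (by omega) i (hlow hi hi') k (hlow hk hk') h
    · obtain ⟨hk1, -, hk3⟩ := hhigh hk hk'
      exact absurd (hk3 ▸ h).symm (hout _ hk1 i (hlow hi hi'))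
    · obtain ⟨hi1, -, hi3⟩ := hhigh hi hi'
      exact absurd (hi3 ▸ h) (hout _ hi1 k (hlow hk hk'))
    · obtain ⟨hi1, hi2, hi3⟩ := hhigh hi hi'
      obtain ⟨hk1, hk2, hk3⟩ := hhigh hk hk'
      rw [hi3, hk3] at h
      have := selP_injective n (by omega) _ hi1 _ hk1 (mul_right_cancel h)
      omega

include hs

theorem sel_injective {i k : ℕ} (hi : i < 1024) (hk : k < 1024) (h : sel 10 i = sel 10 k) : i = k :=
  selP_injective 10 le_rfl i (by norm_num; omega) k (by norm_num; omega) (J4M24.incl_injective h)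

theorem card_S24 : Nat.card S24 = 1024 := by
  have hb : Function.Bijective (fun i : Fin 1024 => (⟨sel 10 i.1, sel_mem 10 le_rfl i.1⟩ : S24)) :=
    ⟨fun a b h => Fin.ext (sel_injective hs a.2 b.2 (congrArg Subtype.val h)),
      fun g => by obtain ⟨i, hi, h⟩ := exists_sel hs g.2; exact ⟨⟨i, hi⟩, Subtype.ext h⟩⟩
  rw [← Nat.card_eq_of_bijective _ hb, Nat.card_fin]

theorem conj_sel : ∀ n ≤ 10, ∀ a v, v < 2048 →
    (sel n a)⁻¹ * ev v * sel n a = ev (linS n a v) ∧ linS n a v < 2048
  | 0, _, a, v, hv => by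
    refine ⟨?_, hv⟩
    rw [sel, selP, map_one, inv_one, one_mul, mul_one]
    rfl
  | n + 1, hn, a, v, hv => by
    obtain ⟨ih, ihlt⟩ := conj_sel n (by omega) a v hv
    rw [sel, selP, map_mul, ← sel, linS]
    cases a.testBit n
    · rw [cond_false, cond_false, map_one, mul_one]
      exact ⟨ih, ihlt⟩
    · rw [cond_true, cond_true, ← sg_eq (by omega)]
      refine ⟨?_, lin_ms_lt (by omega) _⟩
      rw [← conj_sg hs (by omega) ihlt, ← ih]
      group

end CfsgLib.J4Aut79
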